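import Groth.Agent.Biell.K665.Fib
import Groth.Agent.PicF.K247.AbelSurj
import Groth.Agent.Fga.EulerLEAdd

/-!
# The canonical sheaf of a bielliptic surface is algebraically trivial

`algTriv`: for a fibration `f : X ⟶ E` over a curve of genus one as in the fibration theorem, given in the form of
the existence statement (`Curve.IsSmoothProperCurve`, all `f.app U` isomorphisms), the canonical sheaf lies in `Pic⁰`.
-/

set_option autoImplicit false
universe u
open CategoryTheory CategoryTheory.Limits AlgebraicGeometry Opposite TopologicalSpace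

namespace K665.AlgTriv

open Groth.Agent Groth.Agent.Grpsch.PicGrp Groth.Agent.Pic13.H138.AlgEquiv

theorem isIso_unitToPush {X S : Scheme.{u}} (f : X ⟶ S) (hf : ∀ U : S.Opens, IsIso (f.app U)) :
    IsIso (ClSub.unitToPush f) := by
  rw [Scheme.Modules.Hom.isIso_iff_isIso_app]
  intro U
  rw [ConcreteCategory.isIso_iff_bijective]
  exact (ConcreteCategory.isIso_iff_bijective (f.app U)).mp (hf U)

variable (k : Type u) [Field k] [IsAlgClosed k] {X : Scheme.{u}} [X.Over (Spec (CommRingCat.of k))]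

/-- The interface `K857.IsFibr` from the form of the existence theorem. -/
theorem isFibr {E : Scheme.{u}} [E.Over (Spec (CommRingCat.of k))] (f : X ⟶ E)
    (hfo : f ≫ (E ↘ Spec (CommRingCat.of k)) = X ↘ Spec (CommRingCat.of k))
    (hE : Curve.IsSmoothProperCurve k E (E ↘ Spec (CommRingCat.of k))) (hf : ∀ U, IsIso (f.app U))
    (hg : Module.finrank k (Coh.HH E (Coh.structureModule E) 1) = 1) : K857.IsFibr k f := by
  have hrel := Fga.JacAlg.smoothOfRelDim hE
  obtain ⟨hEp, hEs, hEi, hEd⟩ := hE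
  exact ⟨hfo, hEi, hEp, hrel, hg, isIso_unitToPush f hf⟩

/-- The canonical sheaf is algebraically equivalent to zero. -/
theorem algTriv {E : Scheme.{u}} [E.Over (Spec (CommRingCat.of k))] (f : X ⟶ E) (hf : K857.IsFibr k f)
    [IsIntegral X] [IsProper (X ↘ Spec (CommRingCat.of k))]
    [SmoothOfRelativeDimension 2 (X ↘ Spec (CommRingCat.of k))]
    (hproj : ∃ H : X.Modules, CohB1.IsAmple H) (ω : X.Modules)
    (hω : Canon.IsTopDiff (X ↘ Spec (CommRingCat.of k)) 2 ω) (hnum : Pic13.IsNumEquivZero k X ω)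
    (hchi : FGA.eulerCharLE k X (Coh.structureModule X) 2 = 0)
    (hC : ∀ (I : X.IdealSheafData) [IsIntegral I.subscheme], topologicalKrullDim I.subscheme = 1 →
      0 ≤ FGA.intNum k X 2 ![ClSub.idealMod I, ClSub.idealMod I] (Coh.structureModule X)) :
    Pic13.IsAlgEquivZero k X ω := by
  obtain ⟨-, P, hP, hdeg, ⟨e⟩⟩ := K665.fib k X E f hf hproj ω hω hnum hchi hC
  have hEi := hf.integral
  have hEp := hf.proper
  have hEs := hf.smooth
  have hEs' : Smooth (E ↘ Spec (CommRingCat.of k)) := SmoothOfRelativeDimension.smooth 1 _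
  have hEd : topologicalKrullDim E = 1 := by
    exact_mod_cast Pi1.H538.RelDimOne.topologicalKrullDim_eq k E (E ↘ Spec (CommRingCat.of k)) 1
  have hω' : PicF.IsInvertible ω := isInvertible_of_iso e.symm (Fdesc.LocGen.isInvertible_pullback f hP)
  rw [isAlgEquivZero_iff_mem hω']
  have h1 : mk P hP ∈ alg0 k E := K247.AbelSurj.algEq hEd hP hdeg
  have h2 := pull_mem_alg0 f hf.over h1
  have h3 : mk ω hω' = pull f (mk P hP) := by
    rw [pull_mk]
    exact (mk_eq_iff _ _).2 ⟨e⟩
  rw [h3]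
  exact h2

/-- Everything from the existence theorem for the fibration. -/
theorem algTriv' [IsIntegral X] [IsProper (X ↘ Spec (CommRingCat.of k))]
    [SmoothOfRelativeDimension 2 (X ↘ Spec (CommRingCat.of k))]
    (hfib : ∃ (E : Scheme.{u}) (_ : E.Over (Spec (CommRingCat.of k))) (f : X ⟶ E),
      f ≫ (E ↘ Spec (CommRingCat.of k)) = X ↘ Spec (CommRingCat.of k) ∧
      Curve.IsSmoothProperCurve k E (E ↘ Spec (CommRingCat.of k)) ∧ (∀ U, IsIso (f.app U)) ∧
      (∀ c ∈ alg0 k X, ∃ d : Pic E, pull f d = c) ∧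
      Module.finrank k (Coh.HH E (Coh.structureModule E) 1) = 1)
    (hproj : ∃ H : X.Modules, CohB1.IsAmple H) (ω : X.Modules)
    (hω : Canon.IsTopDiff (X ↘ Spec (CommRingCat.of k)) 2 ω) (hnum : Pic13.IsNumEquivZero k X ω)
    (hchi : FGA.eulerCharLE k X (Coh.structureModule X) 2 = 0)
    (hC : ∀ (I : X.IdealSheafData) [IsIntegral I.subscheme], topologicalKrullDim I.subscheme = 1 →
      0 ≤ FGA.intNum k X 2 ![ClSub.idealMod I, ClSub.idealMod I] (Coh.structureModule X)) :
    Pic13.IsAlgEquivZero k X ω := by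
  obtain ⟨E, hE, f, hfo, hEc, hfi, -, hg⟩ := hfib
  exact algTriv k f (isFibr k f hfo hEc hfi hg) hproj ω hω hnum hchi hC

/-- The same with `Curv2.euler k X O_X = 0`. -/
theorem algTriv_euler [IsIntegral X] [IsProper (X ↘ Spec (CommRingCat.of k))]
    [SmoothOfRelativeDimension 2 (X ↘ Spec (CommRingCat.of k))]
    (hfib : ∃ (E : Scheme.{u}) (_ : E.Over (Spec (CommRingCat.of k))) (f : X ⟶ E),
      f ≫ (E ↘ Spec (CommRingCat.of k)) = X ↘ Spec (CommRingCat.of k) ∧
      Curve.IsSmoothProperCurve k E (E ↘ Spec (CommRingCat.of k)) ∧ (∀ U, IsIso (f.app U)) ∧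
      (∀ c ∈ alg0 k X, ∃ d : Pic E, pull f d = c) ∧
      Module.finrank k (Coh.HH E (Coh.structureModule E) 1) = 1)
    (hproj : ∃ H : X.Modules, CohB1.IsAmple H) (ω : X.Modules)
    (hω : Canon.IsTopDiff (X ↘ Spec (CommRingCat.of k)) 2 ω) (hnum : Pic13.IsNumEquivZero k X ω)
    (hchi : Curv2.euler k X (Coh.structureModule X) = 0)
    (hC : ∀ (I : X.IdealSheafData) [IsIntegral I.subscheme], topologicalKrullDim I.subscheme = 1 →
      0 ≤ FGA.intNum k X 2 ![ClSub.idealMod I, ClSub.idealMod I] (Coh.structureModule X)) :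
    Pic13.IsAlgEquivZero k X ω := by
  have hnoeth : IsNoetherian X := Fga.IntAdd.isNoetherian k X
  have hdim : topologicalKrullDim X = 2 := by
    exact_mod_cast Pi1.H538.RelDimOne.topologicalKrullDim_eq k X (X ↘ Spec (CommRingCat.of k)) 2
  refine algTriv' k hfib hproj ω hω hnum ?_ hC
  rw [Fga.EulerLEAdd.eulerCharLE_eq_euler k X 2 (hdim.le.trans (by norm_num)), hchi]

end K665.AlgTriv
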