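import Groth.Agent.VBCurve.K707.Base
import Groth.Agent.TorSh.K653.RatEmb
import Groth.Agent.Ega2.QCohLocal
import Groth.Agent.Fdesc.LocGen

/-!
# The direct image of an invertible module on an integral scheme to a regular curve

* `isGen_push`: a generator over `f⁻¹ V` gives a generator of `f_* N` over `V` if `f_* O_X = O_E`;
* `isTorsionFree_push`;
* `isInvertible_push`: `f_* N` is invertible if `N` is trivial over `f⁻¹ V`, `V` nonempty.
-/

set_option autoImplicit false
universe u
open CategoryTheory CategoryTheory.Limits AlgebraicGeometry Opposite TopologicalSpace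

namespace K665.PushRk

open Groth.Agent Groth.Agent.Fdesc.LocGen Groth.Agent.Ega1

variable {X E : Scheme.{u}} (f : X ⟶ E) (happ : ∀ V : E.Opens, Function.Bijective (f.app V))

include happ

theorem isGen_push {N : X.Modules} {V : E.Opens} (e : Γ(N, f ⁻¹ᵁ V)) (he : IsGen e) :
    IsGen (M := (Scheme.Modules.pushforward f).obj N) (U := V) e := by
  intro W hW
  have h1 := he _ (f.preimage_mono hW)
  exact h1.comp (happ W)

theorem isTorsionFree_push [IsIntegral X] [IsIntegral E] {N : X.Modules} (hN : PicF.IsInvertible N) :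
    TorSh.IsTorsionFree ((Scheme.Modules.pushforward f).obj N) := by
  have hN' : TorSh.IsTorsionFree N :=
    K707.Base.isTorsionFree_of_isFinLocFree (K707.Base.isFinLocFree_of_rank
      (Ega2.QCohLocal.isFinLocFreeOfRank_one_iff.2 hN))
  intro x
  rw [Module.isTorsionFree_iff_smul_eq_zero]
  intro r m hrm
  obtain ⟨U, hU, a, rfl⟩ := E.presheaf.exists_germ_eq r
  obtain ⟨V, hVU, hV, s, rfl⟩ := ModGerm.exists_germ ((Scheme.Modules.pushforward f).obj N) m hU
  have h1 : ModGerm.germ ((Scheme.Modules.pushforward f).obj N) V x hV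
      ((E.presheaf.map (homOfLE hVU).op a : Γ(E, V)) • s) = 0 := by
    rw [ModGerm.germ_smul, ModGerm.germ_res_ring]
    exact hrm
  obtain ⟨W, hW, hWV, h2⟩ := ModGerm.germ_eq_zero _ hV _ h1
  rw [ModGerm.map_smul'] at h2
  by_cases h0 : E.presheaf.map (homOfLE hWV).op (E.presheaf.map (homOfLE hVU).op a) = 0
  · left
    rw [← ModGerm.germ_res_ring hVU hV, ← ModGerm.germ_res_ring hWV hW, h0, map_zero]
  · right
    rw [← ModGerm.germ_res _ hWV hW]
    have h3 : f.app W (E.presheaf.map (homOfLE hWV).op (E.presheaf.map (homOfLE hVU).op a)) ≠ 0 := by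
      intro h
      exact h0 ((happ W).1 (by rw [h, map_zero]))
    have h4 := K653.RatEmb.smul_eq_zero_of_isTorsionFree hN' (U := f ⁻¹ᵁ W) _ h3
      (((Scheme.Modules.pushforward f).obj N).presheaf.map (homOfLE hWV).op s) h2
    rw [show ((Scheme.Modules.pushforward f).obj N).presheaf.map (homOfLE hWV).op s = 0 from h4, map_zero]

theorem rk_push [IsIntegral E] {N : X.Modules} {V : E.Opens} (hV : (V : Set E).Nonempty)
    (e : Γ(N, f ⁻¹ᵁ V)) (he : IsGen e) :
    VarietyA.DegRank.rk ((Scheme.Modules.pushforward f).obj N) = 1 := by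
  obtain ⟨x, hx⟩ := hV
  refine K707.Base.rk_of_restrict (V := V) (K707.Base.mem_of_mem hx) ?_
  rw [Sga67.LocBasis.nonempty_restrict_iso_iff]
  have h1 := isGen_push f happ e he
  refine ⟨fun _ => e, fun W hW => ?_⟩
  have h2 := h1 W hW
  have h3 : Function.Bijective (fun a : Fin 1 → Γ(E, W) => a 0) :=
    (Equiv.funUnique (Fin 1) Γ(E, W)).bijective
  have h6 : ∀ a : Fin 1 → Γ(E, W), Sga67.LocBasis.comb (M := (Scheme.Modules.pushforward f).obj N)
      (fun _ : Fin 1 => e) hW a = (fun c : Γ(E, W) => c • res ((Scheme.Modules.pushforward f).obj N) hW e) (a 0) :=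
    fun a => (Sga67.LocBasis.comb_apply _ _ _).trans (Fin.sum_univ_one _)
  constructor
  · intro a b hab
    rw [h6, h6] at hab
    exact h3.1 (h2.1 hab)
  · intro y
    obtain ⟨a, ha⟩ := (h2.comp h3).2 y
    exact ⟨a, (h6 a).trans ha⟩

theorem isInvertible_push [IsIntegral X] [IsIntegral E] [IsLocallyNoetherian E]
    (hP : ∀ x : E, IsPrincipalIdealRing (E.presheaf.stalk x)) {N : X.Modules} (hN : PicF.IsInvertible N)
    (hcoh : Coh.IsCoh ((Scheme.Modules.pushforward f).obj N)) {V : E.Opens} (hV : (V : Set E).Nonempty)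
    (e : Γ(N, f ⁻¹ᵁ V)) (he : IsGen e) : PicF.IsInvertible ((Scheme.Modules.pushforward f).obj N) := by
  have h1 := K707.Base.isFinLocFreeOfRank_of_torsionFree hP hcoh (isTorsionFree_push f happ hN)
  rw [rk_push f happ hV e he] at h1
  exact Ega2.QCohLocal.isFinLocFreeOfRank_one_iff.1 h1

end K665.PushRk
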