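import Groth.Agent.Biell.K665.Num
import Groth.Agent.Biell.K665.PushRk
import Groth.Agent.Curves.K321.SmoothPid

/-!
# The canonical class comes from the base

* `exists_open_disjoint`: an effective divisor orthogonal to the classes from the base is vertical;
* `exists_isGen`;
* `isInvertible_push`: `f_* ω` is invertible;
* `exists_eq_pull : ∃ p, deg p = 0 ∧ w = f^* p`.
-/

set_option autoImplicit false
universe u
open CategoryTheory CategoryTheory.Limits AlgebraicGeometry Opposite TopologicalSpace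

namespace K665.Canon

open Groth.Agent Groth.Agent.Grpsch.PicGrp Groth.Agent.Fdesc.LocGen K532.CurvePic K532.CurvePts
open K464.Base K464.Curves K464.Comp K464.DivLat Groth.Agent.Dix.IdealModCartier Groth.Agent.Divis.EffCartier
open K665.Num

variable {k : Type u} [Field k] [IsAlgClosed k] {X E : Scheme.{u}} [X.Over (Spec (CommRingCat.of k))]
    [E.Over (Spec (CommRingCat.of k))] {f : X ⟶ E} {ω : X.Modules} (S : Setup k f ω)

include S

/-- A rational point on a nonempty closed subset. -/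
theorem exists_kpt_closed (Z : Set X) (hZ : IsClosed Z) (hne : Z.Nonempty) : ∃ x : KPt k X, pnt x ∈ Z := by
  have := S.proper
  have : JacobsonSpace X := LocallyOfFiniteType.jacobsonSpace (X ↘ Spec (CommRingCat.of k))
  obtain ⟨p, hpZ, hp⟩ := nonempty_inter_closedPoints hne hZ.isLocallyClosed
  refine ⟨(pointEquivClosedPoint (X ↘ Spec (CommRingCat.of k))).symm ⟨p, hp⟩, ?_⟩
  have h1 : pnt ((pointEquivClosedPoint (X ↘ Spec (CommRingCat.of k))).symm ⟨p, hp⟩) = p :=
    congrArg Subtype.val ((pointEquivClosedPoint (X ↘ Spec (CommRingCat.of k))).apply_symm_apply ⟨p, hp⟩)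
  rw [h1]
  exact hpZ

/-- The image of a rational point. -/
noncomputable def im (y : KPt k X) : KPt k E := ⟨y.1 ≫ f, by rw [Category.assoc, S.ov, y.2]⟩

omit [IsAlgClosed k] in
theorem pnt_im (y : KPt k X) : pnt (im S y) = f (pnt y) := rfl

omit [IsAlgClosed k] in
theorem isNonempty_curve {C : X.IdealSheafData} (hC : K464.Curves.IsCurve C) : (C.support : Set X).Nonempty :=
  ⟨_, gp_mem hC⟩

/-- Fibres have nonnegative intersection number with curves. -/
theorem dot_curve_fb_nonneg {C : X.IdealSheafData} (hC : K464.Curves.IsCurve C) (hCe : BlowUp.IsEffCartierIdeal C)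
    (x : KPt k E) : 0 ≤ dot k X (ic C hCe) (pull f (pcl S.hE x)) := by
  have := S.proper
  have := S.int
  have := S.hE.proper
  rw [dot_ic_eq]
  by_cases h : gp hC ∈ (Vert.fb f x).support
  · rw [Vert.degOn_pull_eq_zero f S.hfib x C ((le_iff_gp_mem hC _).2 h), neg_zero]
  · rw [← Vert.ic_fb f S.hfib S.hE x]
    have := degOn_ic_nonpos k hC (Vert.isEff_fb f S.hfib S.hE x) h
    linarith

/-- A curve orthogonal to all fibres lies in a fibre. -/
theorem exists_fb_le {C : X.IdealSheafData} (hC : K464.Curves.IsCurve C) (hCe : BlowUp.IsEffCartierIdeal C)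
    (h0 : ∀ x : KPt k E, dot k X (ic C hCe) (pull f (pcl S.hE x)) = 0) : ∃ x : KPt k E, Vert.fb f x ≤ C := by
  have := S.proper
  have := S.int
  obtain ⟨y, hy⟩ := exists_kpt_closed S (C.support : Set X) C.support.isClosed (isNonempty_curve S hC)
  refine ⟨im S y, ?_⟩
  rw [le_iff_gp_mem hC]
  by_contra h
  have h1 := h0 (im S y)
  have h2 := degOn_ic_neg k hC (Vert.isEff_fb f S.hfib S.hE (im S y)) h (by
    rw [Set.not_disjoint_iff]
    refine ⟨pnt y, hy, ?_⟩
    exact (Vert.mem_support_fb f S.hE (im S y) (pnt y)).2 (pnt_im S y).symm)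
  rw [dot_ic_eq, ← Vert.ic_fb f S.hfib S.hE (im S y)] at h1
  linarith

/-- A divisor orthogonal to all fibres is vertical. -/
theorem exists_open_disjoint {D : X.IdealSheafData} (hD : BlowUp.IsEffCartierIdeal D)
    (h0 : ∀ x : KPt k E, dot k X (ic D hD) (pull f (pcl S.hE x)) = 0) :
    ∃ V : E.Opens, (V : Set E).Nonempty ∧ ∀ y ∈ (D.support : Set X), f y ∉ V := by
  classical
  have := S.proper
  have := S.int
  have := isNoeth S
  have := isSmooth S
  obtain ⟨r, C, n, hC, hinj, hn, hDC⟩ := exists_eq_cyc k (X ↘ Spec (CommRingCat.of k)) (dim S)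
    (fun x => S1535.result k X x) D hD
  have hE : ∀ i, BlowUp.IsEffCartierIdeal (C i) := fun i => isEff_of_smooth k (dim S) (hC i)
  subst hDC
  have h1 : ∀ i, ∀ x : KPt k E, dot k X (ic (C i) (hE i)) (pull f (pcl S.hE x)) = 0 := by
    intro i x
    have h2 : dot k X (ic (cyc C n) (isEff_cyc hE n)) (pull f (pcl S.hE x)) = 0 := h0 x
    rw [dot_cyc_left k hE (dim_le S)] at h2
    rw [Finset.sum_eq_zero_iff_of_nonneg (fun j _ => mul_nonneg (by positivity)
      (dot_curve_fb_nonneg S (hC j) (hE j) x))] at h2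
    have h3 := h2 i (Finset.mem_univ i)
    rcases mul_eq_zero.1 h3 with h4 | h4
    · exact absurd h4 (by exact_mod_cast (hn i).ne')
    · exact h4
  choose x hx using fun i => exists_fb_le S (hC i) (hE i) (h1 i)
  let Z : Set E := ⋃ i, {pnt (x i)}
  have hZ : IsClosed Z := isClosed_iUnion_of_finite fun i => isClosed_pnt S.hE (x i)
  obtain ⟨q, hq⟩ := GenOne.exists_pt_notMem S.hE (Finset.univ.image x)
  refine ⟨⟨Zᶜ, hZ.isOpen_compl⟩, ⟨pnt q, ?_⟩, ?_⟩
  · intro hmem
    obtain ⟨i, hi⟩ := Set.mem_iUnion.1 hmem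
    exact hq (by rw [KPt.ext' S.hE hi]; exact Finset.mem_image_of_mem _ (Finset.mem_univ i))
  · intro y hy hyV
    obtain ⟨i, hi⟩ := Set.mem_iUnion.1 (support_cyc_subset n hy)
    refine hyV (Set.mem_iUnion.2 ⟨i, ?_⟩)
    have h2 : y ∈ (Vert.fb f (x i)).support := Scheme.IdealSheafData.support_antitone (hx i) hi
    exact (Vert.mem_support_fb f S.hE (x i) y).1 h2

omit S [IsAlgClosed k] [X.Over (Spec (CommRingCat.of k))] [E.Over (Spec (CommRingCat.of k))] in
/-- A generator over an open on which the class is trivial. -/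
theorem exists_isGen {N : X.Modules} (hN : PicF.IsInvertible N) (U : X.Opens)
    (h : pull U.ι (mk N hN) = 1) : ∃ e : Γ(N, U), IsGen e := by
  rw [pull_mk] at h
  obtain ⟨e⟩ := (mk_eq_one_iff _).1 h
  let e' : N.restrict U.ι ≅ Coh.structureModule _ :=
    (Scheme.Modules.restrictFunctorIsoPullback U.ι).app N ≪≫ e
  have h4 : IsGen (sec e'.inv ⊤) := (isIso_iff_isGen e'.inv).mp inferInstance
  obtain ⟨m, hm⟩ := (toRestrict (M := N) U.ι (U := ⊤)).surjective (sec e'.inv ⊤)
  rw [← hm, isGen_toRestrict_iff] at h4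
  exact ⟨res N (by simp) m, h4.res (by simp)⟩

omit S [IsAlgClosed k] [X.Over (Spec (CommRingCat.of k))] [E.Over (Spec (CommRingCat.of k))] in
theorem exists_pull_eq_one (b : Pic E) (x : E) : ∃ W : E.Opens, x ∈ W ∧ pull W.ι b = 1 := by
  obtain ⟨B, hB, rfl⟩ := exists_mk b
  obtain ⟨W, hx, ⟨e⟩⟩ := hB x
  refine ⟨W, hx, ?_⟩
  rw [pull_mk, mk_eq_one_iff]
  exact ⟨((Scheme.Modules.restrictFunctorIsoPullback W.ι).app B).symm ≪≫ e⟩

theorem isPID (x : E) : IsPrincipalIdealRing (E.presheaf.stalk x) := by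
  have := S.hE.smooth
  have := S.hE.integral
  exact K321.SmoothPid.isPrincipalIdealRing_of_smooth (E ↘ Spec (CommRingCat.of k)) S.hE.dim.le x

/-- Some twist of `w` has a section. -/
theorem exists_h0_pos : ∃ a : Pic E, 0 < h k X 0 (w S * pull f a) := by
  obtain ⟨x, -⟩ := GenOne.exists_pt_notMem S.hE ∅
  have h1 : deg k E (pcl S.hE x)⁻¹ = 1 := by rw [deg_inv S.hE, deg_pcl, neg_neg]
  have h2 := le_h0_w_pull S (a := (pcl S.hE x)⁻¹) (by rw [h1]; norm_num)
  rw [h1] at h2
  exact ⟨(pcl S.hE x)⁻¹, by omega⟩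

/-- `f_* ω` is invertible. -/
theorem isInvertible_push : PicF.IsInvertible ((Scheme.Modules.pushforward f).obj ω) := by
  have := S.proper
  have := S.int
  have := S.hE.integral
  have := S.hE.noeth
  have := isProper_f S
  have happ := Vert.bij_app f S.hfib
  obtain ⟨a, ha⟩ := exists_h0_pos S
  obtain ⟨D, hD, h1⟩ := exists_divisor S ha
  have h2 : ∀ x : KPt k E, dot k X (ic D hD) (pull f (pcl S.hE x)) = 0 := by
    intro x
    have h3 : ic D hD = (w S * pull f a)⁻¹ := by rw [h1, inv_inv]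
    rw [h3, dot_inv_left k X (dim_le S), dot_mul_left k X (dim_le S), dot_comm k X (w S),
      dot_pull_w S, dot_pull_pull S]
    ring
  obtain ⟨V, hV, hDV⟩ := exists_open_disjoint S hD h2
  obtain ⟨W, hxW, hW⟩ := exists_pull_eq_one a hV.some
  let V' : E.Opens := V ⊓ W
  have hV' : (V' : Set E).Nonempty := ⟨hV.some, hV.some_mem, hxW⟩
  have h3 : pull (f ⁻¹ᵁ V').ι (ic D hD) = 1 := by
    have h4 := nonempty_pullback_idealMod (f ⁻¹ᵁ V').ι hD (fun y hy => hDV _ hy y.2.1)
    exact (mk_eq_one_iff _).2 h4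
  have h5 : pull (f ⁻¹ᵁ V').ι (pull f a) = 1 := by
    have hle : f ⁻¹ᵁ V' ≤ f ⁻¹ᵁ W := f.preimage_mono inf_le_right
    have h6 : (f ⁻¹ᵁ V').ι ≫ f = (X.homOfLE hle ≫ f ∣_ W) ≫ W.ι := by
      rw [Category.assoc, morphismRestrict_ι, ← Category.assoc, Scheme.homOfLE_ι]
    rw [← pull_comp, h6, pull_comp, hW, map_one]
  have h7 : pull (f ⁻¹ᵁ V').ι (w S) = 1 := by
    have h8 : w S = (ic D hD)⁻¹ * (pull f a)⁻¹ := by rw [← h1, mul_inv_cancel_right]
    rw [h8, map_mul, map_inv, map_inv, h3, h5, inv_one, mul_one]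
  obtain ⟨e, he⟩ := exists_isGen (isInv S) (f ⁻¹ᵁ V') h7
  have hcoh : Coh.IsCoh ((Scheme.Modules.pushforward f).obj ω) :=
    Fga.HodgePush.isCoh_push f (isCoh_of_isInvertible k X (isInv S))
  exact PushRk.isInvertible_push f happ (isPID S) (isInv S) hcoh hV' e he

theorem deg_nonneg_of_dot {H : X.Modules} (hH : CohB1.IsAmple H) {b : Pic E}
    (hb : 0 ≤ dot k X (pull f b) (mk H hH.1)) : 0 ≤ deg k E b := by
  have := S.proper
  obtain ⟨x, -⟩ := GenOne.exists_pt_notMem S.hE ∅
  have h1 : deg k E (pcl S.hE x)⁻¹ = 1 := by rw [deg_inv S.hE, deg_pcl, neg_neg]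
  have h2 := dot_pull_ample_pos S hH h1
  have h3 : deg k E (b * ((pcl S.hE x)⁻¹ ^ deg k E b)⁻¹) = 0 := by
    rw [deg_mul S.hE, deg_inv S.hE, GenOne.deg_zpow S.hE, h1]; ring
  have h4 := dot_pull_ample_of_deg_zero S hH h3
  rw [map_mul, map_inv, map_zpow, dot_mul_left k X (dim_le S), dot_inv_left k X (dim_le S),
    dot_zpow_left k X (dim_le S)] at h4
  by_contra hneg
  push Not at hneg
  nlinarith

/-- The canonical class is the pull-back of a class of degree zero. -/
theorem exists_eq_pull : ∃ p : Pic E, deg k E p = 0 ∧ w S = pull f p := by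
  have := S.proper
  obtain ⟨H, hH⟩ := S.ample
  let m : Pic E := mk _ (isInvertible_push S)
  have key : ∀ b : Pic E, h k X 0 (w S * pull f b) = h k E 0 (m * b) := fun b =>
    PicH.h0_mul_pull k f S.ov (isInv S) (isInvertible_push S) b
  have h1 : h k E 0 (m * m⁻¹) = 1 := by rw [mul_inv_cancel]; exact h0_one S.hE
  have h2 : 0 < h k X 0 (w S * pull f m⁻¹) := by rw [key, h1]; exact Nat.one_pos
  -- degrees against the ample class
  have hdot : ∀ b : Pic E, dot k X (w S * pull f b) (mk H hH.1) = dot k X (pull f b) (mk H hH.1) := fun b => by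
    rw [dot_mul_left k X (dim_le S), dot_comm k X (w S), dot_ample_w S hH, zero_add]
  have hm1 : 0 ≤ deg k E m⁻¹ := deg_nonneg_of_dot S hH (by
    rw [← hdot]; exact dot_ample_nonneg S hH h2)
  have hm : deg k E m = 0 := by
    rw [deg_inv S.hE] at hm1
    by_contra hne
    obtain ⟨x, -⟩ := GenOne.exists_pt_notMem S.hE ∅
    have h4 : deg k E (pcl S.hE x)⁻¹ = 1 := by rw [deg_inv S.hE, deg_pcl, neg_neg]
    have h5 : deg k E (m⁻¹ * (pcl S.hE x)⁻¹) = - deg k E m + 1 := by rw [deg_mul S.hE, deg_inv S.hE, h4]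
    have h6 := le_h0_w_pull S (a := m⁻¹ * (pcl S.hE x)⁻¹) (by rw [h5]; omega)
    rw [key, mul_inv_cancel_left, h5] at h6
    have h7 := GenOne.h0_eq S.hE S.hg (c := (pcl S.hE x)⁻¹) (by rw [h4]; norm_num)
    rw [h4] at h7
    omega
  have h3 : w S * pull f m⁻¹ = 1 := by
    refine eq_one_of_h0 S hH h2 ?_
    rw [hdot, dot_pull_ample_of_deg_zero S hH (by rw [deg_inv S.hE, hm, neg_zero])]
  refine ⟨m, hm, ?_⟩
  rw [map_inv, mul_inv_eq_one] at h3
  exact h3

end K665.Canon
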