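import Groth.Agent.Biell.K665.Fibre
import Groth.Agent.Biell.K857.Iface

/-!
# The fibration theorem

A smooth projective surface `X` over an algebraically closed field with numerically trivial canonical sheaf `ω`,
`χ(O_X) = 0` and without integral curves of negative self-intersection, with a morphism `f : X ⟶ E` onto a smooth
proper curve of genus one with `f_* O_X = O_E`: all closed fibres of `f` are integral with `h¹(O) = 1` (and
`h⁰(O) = 1`), and `ω ≅ f^* P` with `deg P = 0`.
-/

set_option autoImplicit false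
universe u
open CategoryTheory CategoryTheory.Limits AlgebraicGeometry Opposite TopologicalSpace

namespace K665.Fib

open Groth.Agent Groth.Agent.Grpsch.PicGrp K532.CurvePic K532.CurvePts K464.Curves K665.Num

variable {k : Type u} [Field k] [IsAlgClosed k] {X E : Scheme.{u}} [X.Over (Spec (CommRingCat.of k))]
    [E.Over (Spec (CommRingCat.of k))] {f : X ⟶ E} {ω : X.Modules}

omit [IsAlgClosed k] in
theorem isClosedImmersion_of_section [IsProper (E ↘ Spec (CommRingCat.of k))] (x : Spec (CommRingCat.of k) ⟶ E)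
    (hx : x ≫ (E ↘ Spec (CommRingCat.of k)) = 𝟙 _) : IsClosedImmersion x := by
  have : IsClosedImmersion (x ≫ (E ↘ Spec (CommRingCat.of k))) := by rw [hx]; infer_instance
  exact IsClosedImmersion.of_comp _ (E ↘ Spec (CommRingCat.of k))

section

variable (S : Setup k f ω) (x : Spec (CommRingCat.of k) ⟶ E) (hx : x ≫ (E ↘ Spec (CommRingCat.of k)) = 𝟙 _)

include S hx

omit [IsAlgClosed k] in
theorem ker_fst : (pullback.fst f x).ker = Vert.fb f (⟨x, hx⟩ : KPt k E) := by
  have := S.hE.proper
  have := isClosedImmersion_of_section x hx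
  exact Scheme.IdealSheafData.ker_fst_of_isClosedImmersion x f

theorem isIntegral_pullback : IsIntegral (pullback f x) := by
  have := S.hE.proper
  have := isClosedImmersion_of_section x hx
  have h1 : IsIntegral (pullback.fst f x).ker.subscheme := by
    rw [ker_fst S x hx]
    exact (Fibre.isCurve_fb S ⟨x, hx⟩).integral
  let e : pullback f x ≅ (pullback.fst f x).ker.subscheme := asIso (pullback.fst f x).toImage
  have : Nonempty ↥(pullback f x) := ⟨e.inv (genericPoint _)⟩
  exact isIntegral_of_isOpenImmersion e.hom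

theorem finrank_pullback (n : ℕ) :
    letI : (pullback f x).Over (Spec (CommRingCat.of k)) := ⟨pullback.snd f x⟩
    Module.finrank k (Coh.HH (pullback f x) (Coh.structureModule (pullback f x)) n) =
      Module.finrank k (Coh.HH X (ClSub.quotMod (Vert.fb f (⟨x, hx⟩ : KPt k E))) n) := by
  letI : (pullback f x).Over (Spec (CommRingCat.of k)) := ⟨pullback.snd f x⟩
  have := S.hE.proper
  have := isClosedImmersion_of_section x hx
  have hover : pullback.fst f x ≫ (X ↘ Spec (CommRingCat.of k)) = pullback f x ↘ Spec (CommRingCat.of k) := by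
    change _ = pullback.snd f x
    rw [← S.ov, pullback.condition_assoc, hx, Category.comp_id]
  obtain ⟨e⟩ := K455.CutKer.nonempty_push_iso_quotMod (pullback.fst f x) _ (ker_fst S x hx)
  rw [← K464.Cohom.finrank_congr k e]
  exact (CurvesC.CurveNum.hhPushₗ k (pullback.fst f x) hover _ n).finrank_eq

theorem h0_pullback :
    letI : (pullback f x).Over (Spec (CommRingCat.of k)) := ⟨pullback.snd f x⟩
    Module.finrank k (Coh.HH (pullback f x) (Coh.structureModule (pullback f x)) 0) = 1 :=
  (finrank_pullback S x hx 0).trans (Fibre.h0_quot_fb S _)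

theorem h1_pullback :
    letI : (pullback f x).Over (Spec (CommRingCat.of k)) := ⟨pullback.snd f x⟩
    Module.finrank k (Coh.HH (pullback f x) (Coh.structureModule (pullback f x)) 1) = 1 :=
  (finrank_pullback S x hx 1).trans (Fibre.h1_quot_fb S _)

end

theorem isGenusOne (S : Setup k f ω) : K857.IsGenusOne k f where
  integral x hx := isIntegral_pullback S x hx
  h1 x hx := h1_pullback S x hx

theorem exists_iso (S : Setup k f ω) : ∃ P : E.Modules, PicF.IsInvertible P ∧
    Pic13.curveDeg k (E ↘ Spec (CommRingCat.of k)) P = 0 ∧ Nonempty (ω ≅ (Scheme.Modules.pullback f).obj P) := by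
  obtain ⟨p, hp, hw⟩ := Canon.exists_eq_pull S
  obtain ⟨P, hP, rfl⟩ := exists_mk p
  refine ⟨P, hP, hp, ?_⟩
  rw [w, pull_mk] at hw
  exact (mk_eq_iff _ _).1 hw

theorem setup_of_isFibr (hf : K857.IsFibr k f) [IsIntegral X]
    [IsProper (X ↘ Spec (CommRingCat.of k))] [SmoothOfRelativeDimension 2 (X ↘ Spec (CommRingCat.of k))]
    (hproj : ∃ H : X.Modules, CohB1.IsAmple H)
    (hω : Canon.IsTopDiff (X ↘ Spec (CommRingCat.of k)) 2 ω) (hnum : Pic13.IsNumEquivZero k X ω)
    (hchi : FGA.eulerCharLE k X (Coh.structureModule X) 2 = 0)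
    (hC : ∀ (I : X.IdealSheafData) [IsIntegral I.subscheme], topologicalKrullDim I.subscheme = 1 →
      0 ≤ FGA.intNum k X 2 ![ClSub.idealMod I, ClSub.idealMod I] (Coh.structureModule X)) : Setup k f ω where
  ov := hf.over
  hE := by
    have := hf.integral
    have := hf.proper
    have := hf.smooth
    have h1 : Smooth (E ↘ Spec (CommRingCat.of k)) := SmoothOfRelativeDimension.smooth 1 _
    exact isCurve_of_isAlgClosed k E ⟨hf.proper, h1, hf.integral, by
      exact_mod_cast Pi1.H538.RelDimOne.topologicalKrullDim_eq k E (E ↘ Spec (CommRingCat.of k)) 1⟩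
  hg := hf.genus
  hfib := hf.unit
  int := inferInstance
  proper := inferInstance
  smooth := inferInstance
  ample := hproj
  canon := hω
  num := hnum
  chi0 := hchi
  self := hC

end K665.Fib

/-- **Fibration theorem.** -/
theorem K665.fib (k : Type u) [Field k] [IsAlgClosed k] (X E : Scheme.{u}) [X.Over (Spec (CommRingCat.of k))]
    [E.Over (Spec (CommRingCat.of k))] (f : X ⟶ E) (hf : K857.IsFibr k f) [IsIntegral X]
    [IsProper (X ↘ Spec (CommRingCat.of k))] [SmoothOfRelativeDimension 2 (X ↘ Spec (CommRingCat.of k))]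
    (hproj : ∃ H : X.Modules, CohB1.IsAmple H) (ω : X.Modules)
    (hω : Canon.IsTopDiff (X ↘ Spec (CommRingCat.of k)) 2 ω) (hnum : Pic13.IsNumEquivZero k X ω)
    (hchi : FGA.eulerCharLE k X (Coh.structureModule X) 2 = 0)
    (hC : ∀ (I : X.IdealSheafData) [IsIntegral I.subscheme], topologicalKrullDim I.subscheme = 1 →
      0 ≤ FGA.intNum k X 2 ![ClSub.idealMod I, ClSub.idealMod I] (Coh.structureModule X)) :
    K857.IsGenusOne k f ∧ ∃ P : E.Modules, PicF.IsInvertible P ∧
      Pic13.curveDeg k (E ↘ Spec (CommRingCat.of k)) P = 0 ∧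
        Nonempty (ω ≅ (Scheme.Modules.pullback f).obj P) :=
  have S := K665.Fib.setup_of_isFibr hf hproj hω hnum hchi hC
  ⟨K665.Fib.isGenusOne S, K665.Fib.exists_iso S⟩
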