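import Groth.Agent.Biell.K665.LES
import Groth.Agent.Surf.K464.Cohom
import Groth.Agent.JacVar.K532.CurvePic
import Groth.Agent.S1520

/-!
# Cohomology of `O_D ⊗ L` on a proper scheme

* `exists_seq : 0 → I_D ⊗ L → L → O_D ⊗ L → 0`, `quot_le`, `ideal_le`: dimension inequalities;
* `finrank_quot_congr`: `h^i(O_D ⊗ L)` only depends on `L|_D`;
* `exists_quot_seq_lt : h⁰(O_W ⊗ I_Z) + 1 ≤ h⁰(O_{Z W})` if `Z ≠ ⊤`;
* `pull_eq_one_of_h0`: a class with a section and degree `0` on a curve is trivial on it;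
* `one_le_h0_quot`.
-/

set_option autoImplicit false
universe u
open CategoryTheory CategoryTheory.Limits AlgebraicGeometry Opposite TopologicalSpace

namespace K665.QuotSeq

open Groth.Agent Groth.Agent.Grpsch.PicGrp Groth.Agent.Fdesc.LocGen K532.CurvePic
open K464.Base K464.Curves K464.Cohom Groth.Agent.Dix.IdealModCartier Groth.Agent.Divis.EffCartier

variable (k : Type u) [Field k] {X : Scheme.{u}} [X.Over (Spec (CommRingCat.of k))]

section seq

omit k [Field k] [X.Over (Spec (CommRingCat.of k))] in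
theorem exists_seq (D : X.IdealSheafData) {L : X.Modules} (hL : PicF.IsInvertible L) :
    ∃ (S : ShortComplex X.Modules), S.ShortExact ∧ Nonempty (S.X₁ ≅ CohB1.tensorMod (ClSub.idealMod D) L) ∧
      Nonempty (S.X₂ ≅ L) ∧ Nonempty (S.X₃ ≅ CohB1.tensorMod (ClSub.quotMod D) L) :=
  ⟨_, Fga.TwistCoh.shortExact_tensorBi hL _ (VarietyB.RestrSeq.idealSeq_shortExact D),
    ⟨Ega2.Tens.swap L (ClSub.idealMod D)⟩,
    ⟨Ega2.Tens.swap L (Coh.structureModule X) ≪≫ Ega2.Tens.lunit L⟩,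
    ⟨Ega2.Tens.swap L (ClSub.quotMod D)⟩⟩

end seq

variable [IsProper (X ↘ Spec (CommRingCat.of k))]

/-- `h^n(O_D ⊗ L) ≤ h^n(L) + h^{n+1}(I_D L)`. -/
theorem quot_le {D : X.IdealSheafData} (hD : BlowUp.IsEffCartierIdeal D) {L : X.Modules}
    (hL : PicF.IsInvertible L) (n : ℕ) :
    Module.finrank k (Coh.HH X (CohB1.tensorMod (ClSub.quotMod D) L) n) ≤
      h k X n (mk L hL) + h k X (n + 1) (ic D hD * mk L hL) := by
  obtain ⟨S, hS, ⟨e1⟩, ⟨e2⟩, ⟨e3⟩⟩ := exists_seq D hL
  rw [ic, mk_mul_mk, h_mk, h_mk, ← finrank_congr k e1, ← finrank_congr k e2, ← finrank_congr k e3]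
  exact LES.le_add k S hS
    (Sga67.CohBasic.isCoh_of_iso e1.symm (isCoh_tensorMod X (isCoh_idealMod k X D) hL))
    (Sga67.CohBasic.isCoh_of_iso e2.symm (isCoh_of_isInvertible k X hL))
    (Sga67.CohBasic.isCoh_of_iso e3.symm (isCoh_tensorMod X (isCoh_quotMod X D) hL)) n

/-- `h^{n+1}(I_D L) ≤ h^n(O_D ⊗ L) + h^{n+1}(L)`. -/
theorem ideal_le {D : X.IdealSheafData} (hD : BlowUp.IsEffCartierIdeal D) {L : X.Modules}
    (hL : PicF.IsInvertible L) (n : ℕ) :
    h k X (n + 1) (ic D hD * mk L hL) ≤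
      Module.finrank k (Coh.HH X (CohB1.tensorMod (ClSub.quotMod D) L) n) + h k X (n + 1) (mk L hL) := by
  obtain ⟨S, hS, ⟨e1⟩, ⟨e2⟩, ⟨e3⟩⟩ := exists_seq D hL
  rw [ic, mk_mul_mk, h_mk, h_mk, ← finrank_congr k e1, ← finrank_congr k e2, ← finrank_congr k e3]
  exact LES.le_add' k S hS
    (Sga67.CohBasic.isCoh_of_iso e1.symm (isCoh_tensorMod X (isCoh_idealMod k X D) hL))
    (Sga67.CohBasic.isCoh_of_iso e2.symm (isCoh_of_isInvertible k X hL))
    (Sga67.CohBasic.isCoh_of_iso e3.symm (isCoh_tensorMod X (isCoh_quotMod X D) hL)) n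

omit [IsProper (X ↘ Spec (CommRingCat.of k))] in
/-- `h^i(O_D ⊗ L)` only depends on the restriction of `L` to `D`. -/
theorem finrank_quot_congr {D : X.IdealSheafData} {L M : X.Modules} (hL : PicF.IsInvertible L)
    (hM : PicF.IsInvertible M) (hLM : pull D.subschemeι (mk L hL) = pull D.subschemeι (mk M hM)) (i : ℕ) :
    Module.finrank k (Coh.HH X (CohB1.tensorMod (ClSub.quotMod D) L) i) =
      Module.finrank k (Coh.HH X (CohB1.tensorMod (ClSub.quotMod D) M) i) := by
  obtain ⟨e⟩ := nonempty_iso_push X D hL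
  obtain ⟨e'⟩ := nonempty_iso_push X D hM
  rw [pull_mk, pull_mk] at hLM
  obtain ⟨g⟩ := (mk_eq_iff _ _).1 hLM
  exact finrank_congr k (e ≪≫ (Scheme.Modules.pushforward D.subschemeι).mapIso g ≪≫ e'.symm) i

omit [IsProper (X ↘ Spec (CommRingCat.of k))] in
theorem finrank_quot_of_pull_eq_one {D : X.IdealSheafData} {L : X.Modules} (hL : PicF.IsInvertible L)
    (h1 : pull D.subschemeι (mk L hL) = 1) (i : ℕ) :
    Module.finrank k (Coh.HH X (CohB1.tensorMod (ClSub.quotMod D) L) i) =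
      Module.finrank k (Coh.HH X (ClSub.quotMod D) i) := by
  rw [finrank_quot_congr k hL isInvertible_structureModule (by rw [h1, ← one_def, map_one])]
  exact finrank_congr k (Ega2.Tens.runit _) i

/-- `h⁰(O_D) ≥ 1` for `D` nonempty. -/
theorem one_le_h0_quot {D : X.IdealSheafData} (hne : D ≠ ⊤) : 1 ≤ Module.finrank k (Coh.HH X (ClSub.quotMod D) 0) := by
  letI := overC k X D
  have := isProper_sub k X D
  have : Nonempty D.subscheme := by
    by_contra h
    rw [not_nonempty_iff] at h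
    apply hne
    rw [← Scheme.IdealSheafData.support_eq_bot_iff]
    refine le_bot_iff.1 fun y hy => ?_
    have h2 : y ∈ Set.range D.subschemeι := by rw [D.range_subschemeι]; exact hy
    obtain ⟨z, -⟩ := h2
    exact (h.false z).elim
  rw [(hhSub0 k D 0).finrank_eq]
  refine Nat.one_le_iff_ne_zero.2 (Nat.pos_iff_ne_zero.1 ?_)
  refine Fga.HodgeSec.finrank_pos_of_ne_zero k isInvertible_structureModule (𝟙 _) fun h0 => ?_
  have h1 : sec (𝟙 (Coh.structureModule D.subscheme)) ⊤ = 0 := by rw [h0]; rfl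
  have h2 : (1 : Γ(D.subscheme, ⊤)) = 0 := by
    apply (isGen_one (X := D.subscheme) ⊤).ext
    rw [zero_smul, one_smul]
    exact h1
  have : Nonempty (⊤ : D.subscheme.Opens) := ⟨⟨Classical.arbitrary _, trivial⟩⟩
  have := Scheme.component_nontrivial D.subscheme ⊤
  exact one_ne_zero h2

/-- The structure sheaf of `Z W` has more sections than `O_W ⊗ I_Z`, if `Z` is not empty. -/
theorem h0_add_one_le {Z W : X.IdealSheafData} (hZ : BlowUp.IsEffCartierIdeal Z) (hne : Z ≠ ⊤) :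
    Module.finrank k (Coh.HH X (CohB1.tensorMod (ClSub.quotMod W) (ClSub.idealMod Z)) 0) + 1 ≤
      Module.finrank k (Coh.HH X (ClSub.quotMod (Z * W)) 0) := by
  obtain ⟨S, hS, ⟨e1⟩, ⟨e2⟩, ⟨e3⟩⟩ := exists_seq₀ W hZ
  rw [← finrank_congr k e1, ← finrank_congr k e2]
  have hseq := VarietyB.RestrSeq.idealSeq_shortExact (Z * W)
  have := hseq.epi_g
  refine LES.add_one_le k S hS
    (Sga67.CohBasic.isCoh_of_iso e1.symm (isCoh_tensorMod X (isCoh_quotMod X W) (isInvertible_idealMod hZ)))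
    (Sga67.CohBasic.isCoh_of_iso e2.symm (isCoh_quotMod X _)) ?_
  have hepi : Epi ((VarietyB.RestrSeq.idealSeq (Z * W)).g ≫ e2.inv : Coh.structureModule X ⟶ S.X₂) :=
    @epi_comp _ _ _ _ _ _ this _ (show Epi e2.inv from inferInstance)
  refine LES.mapA_ne_zero k S hS ((VarietyB.RestrSeq.idealSeq (Z * W)).g ≫ e2.inv) fun h0 => ?_
  have h1 : IsZero (ClSub.quotMod Z) := h0.of_iso e3.symm
  have h2 := one_le_h0_quot k hne
  have h3 : Subsingleton (Coh.HH X (ClSub.quotMod Z) 0) := by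
    refine subsingleton_of_forall_eq 0 fun y => ?_
    have h4 := VarietyA.EulerLES.mapΓ_id (ClSub.quotMod Z) 0
    rw [h1.eq_of_src (𝟙 (ClSub.quotMod Z)) 0, VarietyA.EulerLES.mapΓ_zero] at h4
    have h5 := congrArg (fun φ => φ y) h4
    exact h5.symm
  rw [Module.finrank_zero_of_subsingleton] at h2
  omega

/-- An invertible module with a section on a curve and of nonpositive degree is trivial on the curve. -/
theorem pull_eq_one_of_h0 {C : X.IdealSheafData} (hC : K464.Curves.IsCurve C) {L : X.Modules}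
    (hL : PicF.IsInvertible L) (hdeg : degOn k X C (mk L hL) ≤ 0)
    (hpos : 0 < Module.finrank k (Coh.HH X (CohB1.tensorMod (ClSub.quotMod C) L) 0)) :
    pull C.subschemeι (mk L hL) = 1 := by
  letI := overC k X C
  have := isProper_sub k X C
  have := hC.integral
  have hd : topologicalKrullDim C.subscheme = 1 := (dim_sub X C).trans hC.dim
  rw [(hhSub k C hL 0).finrank_eq] at hpos
  obtain ⟨s, hs⟩ := Fga.HodgeSec.exists_section k hpos
  rw [degOn_eq_deg k X C hL] at hdeg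
  rw [pull_mk, mk_eq_one_iff]
  exact S1520.result k C.subscheme hd _ (isInvertible_pullback C.subschemeι hL) s hs hdeg

end K665.QuotSeq
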