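import Groth.Agent.Biell.K665.Canon
import Groth.Agent.Biell.K665.QuotSeq

/-!
# The closed fibres are integral with `h⁰(O) = h¹(O) = 1`

`F = fb f x` the ideal of the fibre over a rational point `x` of `E`.
* `h0_quot_fb`, `h1_quot_fb`;
* `pull_ic_eq_one`: `O_C(C)` is trivial for a curve `C` contained in `F`;
* `isIntegral_fb`.
-/

set_option autoImplicit false
universe u
open CategoryTheory CategoryTheory.Limits AlgebraicGeometry Opposite TopologicalSpace

namespace K665.Fibre

open Groth.Agent Groth.Agent.Grpsch.PicGrp Groth.Agent.Fdesc.LocGen K532.CurvePic K532.CurvePts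
open K464.Base K464.Curves K464.Comp K464.DivLat K464.Cohom Groth.Agent.Dix.IdealModCartier
open Groth.Agent.Divis.EffCartier K665.Num

variable {k : Type u} [Field k] [IsAlgClosed k] {X E : Scheme.{u}} [X.Over (Spec (CommRingCat.of k))]
    [E.Over (Spec (CommRingCat.of k))] {f : X ⟶ E} {ω : X.Modules} (S : Setup k f ω)

include S

theorem fb_ne_top (x : KPt k E) : Vert.fb f x ≠ ⊤ := by
  intro htop
  have := isProper_f S
  have := Vert.surjective f S.hfib
  obtain ⟨y, hy⟩ := f.surjective (pnt x)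
  have h3 : y ∈ (Vert.fb f x).support := (Vert.mem_support_fb f S.hE x y).2 hy
  rw [htop, Scheme.IdealSheafData.support_top] at h3
  exact h3

/-- A class from the base of degree zero, not `1` and not `p` (where `w = f^* p`), has no cohomology. -/
theorem h1_pull_eq_zero {p q : Pic E} (hp : deg k E p = 0) (hw : w S = pull f p) (hq : deg k E q = 0)
    (hq1 : q ≠ 1) (hqp : q ≠ p) : h k X 1 (pull f q) = 0 := by
  have h1 := euler_eq S (pull f q)
  rw [chi_pull S, PicH.h0_pull k f S.ov S.hfib, GenOne.h0_eq_zero_of_ne S.hE hq.le hq1, serre2 S, hw,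
    ← map_inv, ← map_mul, PicH.h0_pull k f S.ov S.hfib, GenOne.h0_eq_zero_of_ne S.hE
      (by rw [deg_mul S.hE, deg_inv S.hE, hp, hq]; norm_num)
      (by rw [Ne, mul_inv_eq_one]; exact hqp.symm)] at h1
  push_cast at h1
  omega

theorem h0_quot_fb (x : KPt k E) : Module.finrank k (Coh.HH X (ClSub.quotMod (Vert.fb f x)) 0) = 1 := by
  have := S.proper
  have := S.int
  have := S.hE.proper
  refine le_antisymm ?_ (QuotSeq.one_le_h0_quot k (fb_ne_top S x))
  obtain ⟨p, hp, hw⟩ := Canon.exists_eq_pull S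
  obtain ⟨q, hq, hq1, hqp⟩ := GenOne.exists_deg_zero S.hE S.hg p
  obtain ⟨B, hB, hB'⟩ := exists_mk (q * (pcl S.hE x)⁻¹)
  have h1 := QuotSeq.quot_le k (Vert.isEff_fb f S.hfib S.hE x) (isInvertible_pullback f hB) 0
  rw [QuotSeq.finrank_quot_of_pull_eq_one k _ (Vert.pull_sub_pull f x _ le_rfl (mk B hB)),
    Vert.ic_fb f S.hfib S.hE x, ← pull_mk f hB, ← map_mul, PicH.h0_pull k f S.ov S.hfib, ← hB',
    mul_comm (pcl S.hE x), inv_mul_cancel_right, h1_pull_eq_zero S hp hw hq hq1 hqp] at h1
  have h2 : deg k E (q * (pcl S.hE x)⁻¹) = 1 := by rw [deg_mul S.hE, deg_inv S.hE, deg_pcl, hq]; norm_num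
  have h3 := GenOne.h0_eq S.hE S.hg (c := q * (pcl S.hE x)⁻¹) (by rw [h2]; norm_num)
  rw [h2] at h3
  omega

theorem h1_quot_fb (x : KPt k E) : Module.finrank k (Coh.HH X (ClSub.quotMod (Vert.fb f x)) 1) = 1 := by
  have := S.proper
  have := S.int
  have := isNoeth S
  have hF := Vert.isEff_fb f S.hfib S.hE x
  have h1 := euler_quotMod_eq k X hF
  have h2 : topologicalKrullDim ((Vert.fb f x).support : Set X) ≤ 1 := by
    rw [← dim_sub]
    exact_mod_cast K455.Pos.dim_le_of_isEff (Vert.fb f x) hF 1 (by exact_mod_cast (dim_le S))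
  rw [euler_quot_eq k _ h2, h0_quot_fb S, chi_one_eq S, Vert.ic_fb f S.hfib S.hE x, chi_pull S] at h1
  push_cast at h1
  omega

/-! ### Curves in a fibre -/

omit [IsAlgClosed k] in
theorem dot_self_nonneg {C : X.IdealSheafData} (hC : K464.Curves.IsCurve C) (hCe : BlowUp.IsEffCartierIdeal C) :
    0 ≤ dot k X (ic C hCe) (ic C hCe) := by
  have := S.proper
  have := hC.integral
  have h1 := S.self C ((dim_sub X C).trans hC.dim)
  rwa [intNum_eq_dot k X (dim_le S) (isInvertible_idealMod hCe) (isInvertible_idealMod hCe)] at h1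

omit [IsAlgClosed k] in
/-- Curves have nonnegative intersection number with effective divisors. -/
theorem dot_eff_nonneg {C Z : X.IdealSheafData} (hC : K464.Curves.IsCurve C) (hCe : BlowUp.IsEffCartierIdeal C)
    (hZ : BlowUp.IsEffCartierIdeal Z) : 0 ≤ dot k X (ic Z hZ) (ic C hCe) := by
  have := S.proper
  have := S.int
  have := isSmooth S
  have h1 := degOn_nonneg_of_forall k (dim S) (a := (ic C hCe)⁻¹) (fun D hD => by
    have hDe := isEff_of_smooth k (dim S) hD
    rw [degOn_eq_neg_dot k X hDe, dot_inv_right k X (dim_le S), neg_neg]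
    by_cases hDC : D = C
    · subst hDC
      exact dot_self_nonneg S hD hDe
    · exact dot_ic_ic_nonneg k hD hDe hCe (gp_notMem hD hC hDC)) hZ
  rwa [degOn_eq_neg_dot k X hZ, dot_inv_right k X (dim_le S), neg_neg] at h1

/-- `O_C(C)` is trivial for a curve `C` in a fibre. -/
theorem pull_ic_eq_one {C : X.IdealSheafData} (hC : K464.Curves.IsCurve C) (hCe : BlowUp.IsEffCartierIdeal C)
    {x : KPt k E} (hle : Vert.fb f x ≤ C) (h0 : dot k X (ic C hCe) (ic C hCe) = 0) :
    pull C.subschemeι (ic C hCe) = 1 := by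
  have := S.proper
  have := S.int
  have := S.hE.proper
  have := isSmooth S
  obtain ⟨L, hL, hLc⟩ := exists_mk (ic C hCe)⁻¹
  obtain ⟨p, hp, hw⟩ := Canon.exists_eq_pull S
  have hwC : pull C.subschemeι (w S) = 1 := by rw [hw]; exact Vert.pull_sub_pull f x C hle p
  have hd : topologicalKrullDim (C.support : Set X) ≤ 1 := hC.dim.le
  -- `χ(O_C ⊗ L) = 0`
  have h1 : Curv2.euler k X (CohB1.tensorMod (ClSub.quotMod C) L) = 0 := by
    rw [euler_quotMod_tensor_eq k X hCe hL, ← hLc, mul_inv_cancel, chi_one_eq S, sub_zero]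
    have h2 := rr' S (ic C hCe)⁻¹
    rw [dot_inv_inv k X (dim_le S), h0, dot_inv_left k X (dim_le S), dot_ic_w S hCe] at h2
    omega
  rw [euler_quot_tensor_eq k C hd hL] at h1
  -- `h¹(O_C ⊗ L) ≥ 1`
  have h2 : 1 ≤ Module.finrank k (Coh.HH X (CohB1.tensorMod (ClSub.quotMod C) L) 1) := by
    obtain ⟨M, hM, hMc⟩ := exists_mk (w S * (ic C hCe)⁻¹)
    have h3 := QuotSeq.ideal_le k hCe hM 1
    rw [← hMc, show ic C hCe * (w S * (ic C hCe)⁻¹) = w S by
      rw [mul_comm (w S), mul_inv_cancel_left]] at h3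
    have h4 : h k X (1 + 1) (w S) = 1 := by
      rw [show (1 + 1 : ℕ) = 2 from rfl, serre2 S, mul_inv_cancel]
      have h5 := PicH.h0_pull k f S.ov S.hfib 1
      rw [map_one] at h5
      rw [h5]
      exact h0_one S.hE
    have h6 : h k X (1 + 1) (w S * (ic C hCe)⁻¹) = 0 := by
      rw [show (1 + 1 : ℕ) = 2 from rfl, serre2 S, mul_inv_rev, inv_inv, mul_comm (ic C hCe),
        mul_inv_cancel_left]
      by_contra hne
      obtain ⟨H, hH⟩ := S.ample
      have h7 := dot_ample_nonneg S hH (Nat.pos_of_ne_zero hne)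
      rw [dot_ic_eq] at h7
      have h8 := degOn_pos_of_ample k hC hH.1 hH
      linarith
    rw [h4, h6, QuotSeq.finrank_quot_congr k hM hL (by rw [← hMc, ← hLc, map_mul, hwC, one_mul])] at h3
    omega
  have h3 : 0 < Module.finrank k (Coh.HH X (CohB1.tensorMod (ClSub.quotMod C) L) 0) := by omega
  have h4 := QuotSeq.pull_eq_one_of_h0 k hC hL (by
    rw [← hLc, degOn_eq_neg_dot k X hCe, dot_inv_right k X (dim_le S), h0]; norm_num) h3
  rw [← hLc, map_inv, inv_eq_one] at h4
  exact h4

/-- The fibre over `x` is an integral curve. -/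
theorem isCurve_fb (x : KPt k E) : K464.Curves.IsCurve (Vert.fb f x) := by
  have := S.proper
  have := S.int
  have := S.hE.proper
  have := isNoeth S
  have := isSmooth S
  have hF := Vert.isEff_fb f S.hfib S.hE x
  have hne : ((Vert.fb f x).support : Set X).Nonempty := by
    have := isProper_f S
    have := Vert.surjective f S.hfib
    obtain ⟨y, hy⟩ := f.surjective (pnt x)
    exact ⟨y, (Vert.mem_support_fb f S.hE x y).2 hy⟩
  obtain ⟨y, hy⟩ := hne
  obtain ⟨C, hC, hle, -⟩ := exists_curve_le (X ↘ Spec (CommRingCat.of k)) (dim S) hF y hy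
  have hCe := isEff_of_smooth k (dim S) hC
  obtain ⟨Z, hZ, hmul⟩ := Divis.ColonIdeal.exists_mul_eq hCe hF hle
  have hic : ic (Vert.fb f x) hF = ic C hCe * ic Z hZ := by
    rw [← ic_mul hCe hZ]
    exact ic_congr _ _ hmul.symm
  -- intersection numbers
  have h1 : dot k X (ic (Vert.fb f x) hF) (ic C hCe) = 0 := by
    rw [Vert.ic_fb f S.hfib S.hE x, dot_comm, dot_ic_eq, Vert.degOn_pull_eq_zero f S.hfib x C hle, neg_zero]
  rw [hic, dot_mul_left k X (dim_le S)] at h1
  have h2 := dot_self_nonneg S hC hCe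
  have h3 := dot_eff_nonneg S hC hCe hZ
  have h4 : dot k X (ic C hCe) (ic C hCe) = 0 := by linarith
  have h5 := pull_ic_eq_one S hC hCe hle h4
  have h6 : pull C.subschemeι (ic Z hZ) = 1 := by
    have h7 : pull C.subschemeι (ic (Vert.fb f x) hF) = 1 := by
      rw [Vert.ic_fb f S.hfib S.hE x]
      exact Vert.pull_sub_pull f x C hle _
    rwa [hic, map_mul, h5, one_mul] at h7
  have hZtop : Z = ⊤ := by
    by_contra hZne
    have h7 := QuotSeq.h0_add_one_le k (W := C) hZ hZne
    rw [show CohB1.tensorMod (ClSub.quotMod C) (ClSub.idealMod Z) = _ from rfl,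
      QuotSeq.finrank_quot_of_pull_eq_one k (isInvertible_idealMod hZ) h6, mul_comm, hmul, h0_quot_fb S] at h7
    have h8 := QuotSeq.one_le_h0_quot k (D := C) (by
      rintro rfl
      have h9 := gp_mem hC
      rw [Scheme.IdealSheafData.support_top] at h9
      exact h9)
    omega
  have h7 : Vert.fb f x = C := by
    rw [← hmul, hZtop, ← Scheme.IdealSheafData.one_eq_top, mul_one]
  rw [h7]
  exact hC

end K665.Fibre
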