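import Groth.Agent.JacVar.K532.CurvePts

/-!
# Classes of invertible modules on a smooth proper curve of genus one over an algebraically closed field

* `h0_eq`, `h1_eq_zero`, `h0_inv_eq_zero`, `h1_inv_eq`: cohomology of classes of positive degree and of their inverses;
* `exists_pt`: a class of degree one is the class of a point; `pcl_injective`;
* `exists_pt_notMem`: there are points outside a finite set;
* `exists_deg_zero`: a class of degree zero different from `1` and from a given class;
* `closure_pcl`: the classes of points generate.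
-/

set_option autoImplicit false
universe u
open CategoryTheory CategoryTheory.Limits AlgebraicGeometry Opposite TopologicalSpace

namespace K665.GenOne

open Groth.Agent Groth.Agent.Grpsch.PicGrp K532.CurvePic K532.CurvePts

section zpow

variable {k : Type u} [Field k] {E : Scheme.{u}} [E.Over (Spec (CommRingCat.of k))] (hE : IsCurve k E)

include hE in
theorem deg_zpow (a : Pic E) (n : ℤ) : deg k E (a ^ n) = n * deg k E a := by
  obtain ⟨m, rfl | rfl⟩ := n.eq_nat_or_neg
  · rw [zpow_natCast, deg_pow hE]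
  · rw [zpow_neg, zpow_natCast, deg_inv hE, deg_pow hE]; ring

end zpow

variable {k : Type u} [Field k] [IsAlgClosed k] {E : Scheme.{u}} [E.Over (Spec (CommRingCat.of k))]
  (hE : IsCurve k E)

include hE in
/-- There are rational points outside a finite set. -/
theorem exists_pt_notMem (s : Finset (KPt k E)) : ∃ x : KPt k E, x ∉ s := by
  have := hE.integral
  classical
  let Z : Set E := ⋃ y ∈ s, {pnt y}
  have hZ : IsClosed Z := Set.Finite.isClosed_biUnion s.finite_toSet fun y _ => isClosed_pnt hE y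
  have hgen : genericPoint E ∉ Z := by
    intro hmem
    obtain ⟨y, -, hy⟩ := Set.mem_iUnion₂.1 hmem
    have h1 : closure {genericPoint E} = (Set.univ : Set E) := genericPoint_spec E
    have h2 : genericPoint E = pnt y := hy
    rw [h2, (isClosed_pnt hE y).closure_eq] at h1
    have h3 : Subsingleton E := ⟨fun a b => by
      have ha : a ∈ ({pnt y} : Set E) := by rw [h1]; trivial
      have hb : b ∈ ({pnt y} : Set E) := by rw [h1]; trivial
      rw [Set.mem_singleton_iff.1 ha, Set.mem_singleton_iff.1 hb]⟩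
    have h4 := hE.dim
    have h5 : topologicalKrullDim E ≤ 0 := by
      have : Subsingleton (TopologicalSpace.IrreducibleCloseds E) := ⟨fun a b => by
        apply TopologicalSpace.IrreducibleCloseds.ext
        rw [Set.Nonempty.eq_univ a.isIrreducible.nonempty, Set.Nonempty.eq_univ b.isIrreducible.nonempty]⟩
      exact Order.krullDim_nonpos_of_subsingleton
    rw [h4] at h5
    exact absurd h5 (by norm_num)
  obtain ⟨x, hx⟩ := exists_kpt hE ⟨Zᶜ, hZ.isOpen_compl⟩ ⟨_, hgen⟩
  refine ⟨x, fun hxs => hx ?_⟩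
  exact Set.mem_iUnion₂.2 ⟨x, hxs, rfl⟩

variable (hg : gen k E = 1)

include hg

omit [IsAlgClosed k] in
include hE in
theorem rr1 (c : Pic E) : (h k E 0 c : ℤ) - h k E 1 c = deg k E c := by
  have := rr hE c
  rw [hg] at this
  push_cast at this
  linarith

omit [IsAlgClosed k] in
include hE in
theorem h1_eq_zero {c : Pic E} (hc : 0 < deg k E c) : h k E 1 c = 0 := by
  rw [serre hE]
  apply h0_eq_zero_of_deg_neg hE
  rw [deg_mul hE, deg_inv hE, deg_om, hg]
  push_cast
  linarith

omit [IsAlgClosed k] in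
include hE in
theorem h0_eq {c : Pic E} (hc : 0 < deg k E c) : (h k E 0 c : ℤ) = deg k E c := by
  have h1 := rr1 hE hg c
  rw [h1_eq_zero hE hg hc] at h1
  push_cast at h1
  linarith

omit [IsAlgClosed k] hg in
include hE in
theorem h0_inv_eq_zero {c : Pic E} (hc : 0 < deg k E c) : h k E 0 c⁻¹ = 0 := by
  apply h0_eq_zero_of_deg_neg hE
  rw [deg_inv hE]
  linarith

omit [IsAlgClosed k] in
include hE in
theorem h1_inv_eq {c : Pic E} (hc : 0 < deg k E c) : (h k E 1 c⁻¹ : ℤ) = deg k E c := by
  have h1 := rr1 hE hg c⁻¹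
  rw [h0_inv_eq_zero hE hc, deg_inv hE] at h1
  push_cast at h1
  linarith

omit [IsAlgClosed k] hg in
include hE in
theorem h0_eq_zero_of_ne {c : Pic E} (hc : deg k E c ≤ 0) (h1 : c ≠ 1) : h k E 0 c = 0 := by
  by_contra h0
  exact h1 (eq_one_of_deg_nonpos hE (Nat.pos_of_ne_zero h0) hc)

/-- A class of degree one is the class of a point. -/
theorem exists_pt {c : Pic E} (hc : deg k E c = 1) : ∃ x : KPt k E, c = (pcl hE x)⁻¹ := by
  have h0 : (h k E 0 c : ℤ) = 1 := by rw [h0_eq hE hg (by rw [hc]; norm_num), hc]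
  obtain ⟨x, hx⟩ := (h0_pos_iff hE (c := c) (d := 1) (by rw [hc]; norm_num)).1 (by omega)
  refine ⟨x 0, ?_⟩
  rw [hx, Fin.prod_univ_one]

theorem pcl_injective : Function.Injective (pcl hE) := by
  intro x y hxy
  have h0 : h k E 0 (∏ i : Fin 1, (pcl hE ((fun _ => x) i))⁻¹) = 1 := by
    have h1 : deg k E (∏ i : Fin 1, (pcl hE ((fun _ => x) i))⁻¹) = 1 := by
      rw [deg_prod_pcl]; norm_num
    have h2 := h0_eq hE hg (c := ∏ i : Fin 1, (pcl hE ((fun _ => x) i))⁻¹) (by rw [h1]; norm_num)
    rw [h1] at h2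
    exact_mod_cast h2
  have h1 := map_eq_of_h0_eq_one hE (fun _ : Fin 1 => x) (fun _ : Fin 1 => y) (by simp only [hxy]) h0
  simpa using h1

include hE in
/-- There is a class of degree zero different from `1` and from a given class. -/
theorem exists_deg_zero (P : Pic E) : ∃ Q : Pic E, deg k E Q = 0 ∧ Q ≠ 1 ∧ Q ≠ P := by
  classical
  obtain ⟨p, -⟩ := exists_pt_notMem hE ∅
  obtain ⟨q, hq⟩ := exists_pt_notMem hE {p}
  obtain ⟨r, hr⟩ := exists_pt_notMem hE {p, q}
  have hqp : q ≠ p := by simpa using hq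
  have hrp : r ≠ p ∧ r ≠ q := by
    rw [Finset.mem_insert, Finset.mem_singleton] at hr
    exact not_or.1 hr
  have key : ∀ y : KPt k E, deg k E (pcl hE p * (pcl hE y)⁻¹) = 0 := fun y => by
    rw [deg_mul hE, deg_inv hE, deg_pcl, deg_pcl]; ring
  have key2 : ∀ y : KPt k E, y ≠ p → pcl hE p * (pcl hE y)⁻¹ ≠ 1 := fun y hy h1 => by
    rw [mul_inv_eq_one] at h1
    exact hy (pcl_injective hE hg h1).symm
  by_cases hP : pcl hE p * (pcl hE q)⁻¹ = P
  · refine ⟨pcl hE p * (pcl hE r)⁻¹, key r, key2 r hrp.1, fun h1 => hrp.2 ?_⟩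
    rw [← hP, mul_right_inj, inv_inj] at h1
    exact pcl_injective hE hg h1
  · exact ⟨_, key q, key2 q hqp, hP⟩

include hE in
/-- The classes of the points generate the Picard group. -/
theorem closure_pcl : Subgroup.closure (Set.range (pcl hE)) = ⊤ := by
  rw [eq_top_iff]
  intro c _
  obtain ⟨x, -⟩ := exists_pt_notMem hE ∅
  have h1 : deg k E (c * pcl hE x ^ (deg k E c - 1)) = 1 := by
    rw [deg_mul hE, deg_zpow hE, deg_pcl]; ring
  obtain ⟨y, hy⟩ := exists_pt hE hg h1
  have h2 : c = (pcl hE y)⁻¹ * (pcl hE x ^ (deg k E c - 1))⁻¹ := by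
    rw [← hy, mul_inv_cancel_right]
  rw [h2]
  exact Subgroup.mul_mem _ (Subgroup.inv_mem _ (Subgroup.subset_closure (Set.mem_range_self y)))
    (Subgroup.inv_mem _ (Subgroup.zpow_mem _ (Subgroup.subset_closure (Set.mem_range_self x)) _))

include hE in
/-- A homomorphism to an additive group (written multiplicatively on the source) vanishing on points vanishes. -/
theorem eq_zero_of_pcl (φ : Pic E → ℤ) (hφ : ∀ a b, φ (a * b) = φ a + φ b)
    (h0 : ∀ x : KPt k E, φ (pcl hE x) = 0) (c : Pic E) : φ c = 0 := by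
  have h1 : φ 1 = 0 := by
    have := hφ 1 1
    rw [one_mul] at this
    linarith
  have hmem : c ∈ Subgroup.closure (Set.range (pcl hE)) := by rw [closure_pcl hE hg]; trivial
  induction hmem using Subgroup.closure_induction with
  | mem x hx => obtain ⟨y, rfl⟩ := hx; exact h0 y
  | one => exact h1
  | mul x y _ _ hx hy => rw [hφ, hx, hy, add_zero]
  | inv x _ hx =>
    have := hφ x x⁻¹
    rw [mul_inv_cancel, h1, hx] at this
    linarith

end K665.GenOne
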