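import Groth.Agent.VarietyA.EulerLES
import Groth.Agent.Fga.HodgeSec
import Groth.Agent.JacVar.K532.SecMul

/-!
# Dimension inequalities from the long exact cohomology sequence

* `le_add : h^n(X₃) ≤ h^n(X₂) + h^{n+1}(X₁)`;
* `le_add' : h^{n+1}(X₁) ≤ h^n(X₃) + h^{n+1}(X₂)`;
* `add_one_le : h⁰(X₁) + 1 ≤ h⁰(X₂)` if `H⁰(X₂) → H⁰(X₃)` is not zero;
* `mapA_ne_zero`: this holds if `X₂` is a quotient of `O_X` and `X₃ ≠ 0`.
-/

set_option autoImplicit false
universe u
open CategoryTheory CategoryTheory.Limits AlgebraicGeometry Opposite TopologicalSpace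

namespace K665.LES

open Groth.Agent Groth.Agent.VarietyA.EulerLES Groth.Agent.Fdesc.LocGen Groth.Agent.VarietyA.CurveLin

theorem exact_le {k A B C : Type*} [Field k] [AddCommGroup A] [Module k A] [AddCommGroup B] [Module k B]
    [AddCommGroup C] [Module k C] [Module.Finite k A] [Module.Finite k B] [Module.Finite k C]
    {f : A →ₗ[k] B} {g : B →ₗ[k] C} (h : Function.Exact f g) :
    Module.finrank k B ≤ Module.finrank k A + Module.finrank k C := by
  rw [← LinearMap.finrank_range_add_finrank_ker g, h.linearMap_ker_eq, add_comm]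
  exact Nat.add_le_add (LinearMap.finrank_range_le f) (Submodule.finrank_le _)

variable (k : Type u) [Field k] {X : Scheme.{u}} [X.Over (Spec (CommRingCat.of k))]
  [IsProper (X ↘ Spec (CommRingCat.of k))] (S : ShortComplex X.Modules) (hS : S.ShortExact)
  (h₁ : Coh.IsCoh S.X₁) (h₂ : Coh.IsCoh S.X₂) (h₃ : Coh.IsCoh S.X₃)

include hS h₁ h₂ h₃

theorem le_add (n : ℕ) : Module.finrank k (Coh.HH X S.X₃ n) ≤
    Module.finrank k (Coh.HH X S.X₂ n) + Module.finrank k (Coh.HH X S.X₁ (n + 1)) := by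
  have := Fga.HodgeSec.finite_HH' k h₃ n
  have := Fga.HodgeSec.finite_HH' k h₂ n
  have := Fga.HodgeSec.finite_HH' k h₁ (n + 1)
  exact exact_le (exactA₃ k S hS n (n + 1) rfl)

theorem le_add' (n : ℕ) : Module.finrank k (Coh.HH X S.X₁ (n + 1)) ≤
    Module.finrank k (Coh.HH X S.X₃ n) + Module.finrank k (Coh.HH X S.X₂ (n + 1)) := by
  have := Fga.HodgeSec.finite_HH' k h₃ n
  have := Fga.HodgeSec.finite_HH' k h₂ (n + 1)
  have := Fga.HodgeSec.finite_HH' k h₁ (n + 1)
  exact exact_le (exactA₁ k S hS n (n + 1) rfl)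

omit h₃ in
theorem add_one_le (hne : mapA k S.g 0 ≠ 0) :
    Module.finrank k (Coh.HH X S.X₁ 0) + 1 ≤ Module.finrank k (Coh.HH X S.X₂ 0) := by
  have := Fga.HodgeSec.finite_HH' k h₂ 0
  have := Fga.HodgeSec.finite_HH' k h₁ 0
  rw [← LinearMap.finrank_range_add_finrank_ker (mapA k S.g 0), (exactA₂ k S hS 0).linearMap_ker_eq,
    LinearMap.finrank_range_of_inj (injectiveA₀ k S hS), add_comm]
  refine Nat.add_le_add_right (Nat.succ_le_iff.2 ?_) _
  have : Module.Finite k (LinearMap.range (mapA k S.g 0)) := inferInstance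
  rw [Module.finrank_pos_iff, Submodule.nontrivial_iff_ne_bot, Ne, LinearMap.range_eq_bot]
  exact hne

omit h₁ h₂ h₃ [IsProper (X ↘ Spec (CommRingCat.of k))] in
theorem mapA_ne_zero (π : Coh.structureModule X ⟶ S.X₂) [Epi π] (h3 : ¬ IsZero S.X₃) : mapA k S.g 0 ≠ 0 := by
  intro h0
  have := hS.epi_g
  have h1 : Epi (π ≫ S.g) := epi_comp _ _
  have h2 : π ≫ S.g = 0 := by
    apply hom_ext_sec
    have h5 : secOf S.X₃ (mapA k S.g 0 ((secOf S.X₂).symm (sec π ⊤))) = S.g.app ⊤ (sec π ⊤) := by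
      have h6 := K532.SecMul.secOf_hmap S.g ((secOf S.X₂).symm (sec π ⊤))
      rw [AddEquiv.apply_symm_apply] at h6
      exact h6
    rw [sec_comp, ← h5, h0, LinearMap.zero_apply, map_zero]
    rfl
  apply h3
  rw [IsZero.iff_id_eq_zero]
  rw [← cancel_epi (π ≫ S.g), h2, zero_comp, zero_comp]

end K665.LES
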