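import Mathlib.AlgebraicGeometry.Pullbacks
import Mathlib.AlgebraicGeometry.Morphisms.Affine
import Mathlib.AlgebraicGeometry.EllipticCurve.Affine.Point
import Mathlib.Algebra.Category.Ring.Constructions

/-! A family of affine curves with global Weierstrass coordinates over a scheme over a field `k` and constant
coefficients is the product with an affine Weierstrass curve over `k`. -/

set_option autoImplicit false
universe u
open CategoryTheory CategoryTheory.Limits AlgebraicGeometry Opposite TopologicalSpace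
open scoped TensorProduct

namespace K665.NodeB

/-- the short Weierstrass curve -/
abbrev W {k : Type u} [Field k] (a b : k) : WeierstrassCurve.Affine k := ⟨0, 0, 0, a, b⟩

section alg

variable {k : Type u} [Field k] (a b : k)

/-- the coordinate `x` -/
noncomputable abbrev cx : (W a b).CoordinateRing :=
  algebraMap (Polynomial k) (W a b).CoordinateRing Polynomial.X

/-- the coordinate `y` -/
noncomputable abbrev cy : (W a b).CoordinateRing :=
  WeierstrassCurve.Affine.CoordinateRing.mk (W a b) Polynomial.X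

theorem smul_one_eq (p : Polynomial k) (n : ℕ) (hn : p.natDegree < n) (e : (W a b).CoordinateRing) :
    p • e = ∑ i ∈ Finset.range n, p.coeff i • (cx a b ^ i * e) := by
  conv_lhs => rw [p.as_sum_range' n hn, Finset.sum_smul]
  refine Finset.sum_congr rfl fun i _ => ?_
  rw [← Polynomial.C_mul_X_pow_eq_monomial, mul_smul, Algebra.smul_def (Polynomial.X ^ i), map_pow,
    ← Polynomial.algebraMap_eq, algebraMap_smul]

/-- normal form in the base change of the coordinate ring -/
theorem exists_form (A : Type u) [CommRing A] [Algebra k A] (t : A ⊗[k] (W a b).CoordinateRing) :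
    ∃ (n : ℕ) (c d : ℕ → A), t = ∑ i ∈ Finset.range n,
      (c i ⊗ₜ[k] (cx a b ^ i) + d i ⊗ₜ[k] (cx a b ^ i * cy a b)) := by
  induction t using TensorProduct.induction_on with
  | zero => exact ⟨0, 0, 0, by simp⟩
  | tmul r e =>
    obtain ⟨p, q, rfl⟩ := WeierstrassCurve.Affine.CoordinateRing.exists_smul_basis_eq e
    refine ⟨max p.natDegree q.natDegree + 1, fun i => p.coeff i • r, fun i => q.coeff i • r, ?_⟩
    rw [smul_one_eq a b p _ (Nat.lt_succ_of_le (le_max_left _ _)),
      smul_one_eq a b q _ (Nat.lt_succ_of_le (le_max_right _ _)), ← Finset.sum_add_distrib, TensorProduct.tmul_sum]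
    refine Finset.sum_congr rfl fun i _ => ?_
    rw [TensorProduct.tmul_add, TensorProduct.tmul_smul, TensorProduct.tmul_smul, TensorProduct.smul_tmul',
      TensorProduct.smul_tmul', mul_one]
    try rfl
  | add t t' h h' =>
    obtain ⟨n, c, d, rfl⟩ := h
    obtain ⟨n', c', d', rfl⟩ := h'
    have key : ∀ (m N : ℕ) (hm : m ≤ N) (f g : ℕ → A),
        ∑ i ∈ Finset.range m, (f i ⊗ₜ[k] (cx a b ^ i) + g i ⊗ₜ[k] (cx a b ^ i * cy a b)) =
        ∑ i ∈ Finset.range N, ((if i < m then f i else 0) ⊗ₜ[k] (cx a b ^ i) +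
          (if i < m then g i else 0) ⊗ₜ[k] (cx a b ^ i * cy a b)) := by
      intro m N hm f g
      rw [← Finset.sum_subset (Finset.range_subset_range.2 hm)]
      · refine Finset.sum_congr rfl fun i hi => ?_
        rw [if_pos (Finset.mem_range.1 hi), if_pos (Finset.mem_range.1 hi)]
      · intro i _ hi
        rw [if_neg (fun h => hi (Finset.mem_range.2 h)), if_neg (fun h => hi (Finset.mem_range.2 h)),
          TensorProduct.zero_tmul, TensorProduct.zero_tmul, add_zero]
    refine ⟨max n n', fun i => (if i < n then c i else 0) + (if i < n' then c' i else 0),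
      fun i => (if i < n then d i else 0) + (if i < n' then d' i else 0), ?_⟩
    rw [key n _ (le_max_left n n') c d, key n' _ (le_max_right n n') c' d', ← Finset.sum_add_distrib]
    refine Finset.sum_congr rfl fun i _ => ?_
    rw [TensorProduct.add_tmul, TensorProduct.add_tmul]
    abel

/-- criterion for a base change of the coordinate ring -/
theorem isPushout_of {A B : Type u} [CommRing A] [CommRing B] (α : k →+* A) (β : A →+* B)
    (ψ : (W a b).CoordinateRing →+* B) (h : β.comp α = ψ.comp (algebraMap k (W a b).CoordinateRing))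
    (hgen : ∀ S : Subring B, (∀ r, β r ∈ S) → ψ (cx a b) ∈ S → ψ (cy a b) ∈ S → S = ⊤)
    (hind : ∀ (n : ℕ) (c d : ℕ → A), ∑ i ∈ Finset.range n,
      (β (c i) * ψ (cx a b) ^ i + β (d i) * (ψ (cx a b) ^ i * ψ (cy a b))) = 0 → ∀ i < n, c i = 0 ∧ d i = 0) :
    IsPushout (CommRingCat.ofHom α) (CommRingCat.ofHom (algebraMap k (W a b).CoordinateRing))
      (CommRingCat.ofHom β) (CommRingCat.ofHom ψ) := by
  let _ := α.toAlgebra
  let _ := β.toAlgebra
  let _ : Algebra k B := (β.comp α).toAlgebra
  have : IsScalarTower k A B := .of_algebraMap_eq (fun _ => rfl)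
  let ψ' : (W a b).CoordinateRing →ₐ[k] B :=
    { ψ with commutes' := fun r => (RingHom.congr_fun h r).symm }
  let θ : A ⊗[k] (W a b).CoordinateRing →ₐ[A] B :=
    Algebra.TensorProduct.lift (Algebra.ofId A B) ψ' (fun _ _ => Commute.all _ _)
  have hθ : ∀ (r : A) (e : (W a b).CoordinateRing), θ (r ⊗ₜ e) = β r * ψ e := fun r e =>
    Algebra.TensorProduct.lift_tmul _ _ _ r e
  have hinj : Function.Injective θ := by
    rw [injective_iff_map_eq_zero]
    intro t ht
    obtain ⟨n, c, d, rfl⟩ := exists_form a b A t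
    have h1 := hind n c d (by
      rw [← ht, map_sum]
      refine Finset.sum_congr rfl fun i _ => ?_
      rw [map_add, hθ, hθ, map_pow, map_mul, map_pow])
    refine Finset.sum_eq_zero fun i hi => ?_
    obtain ⟨h2, h3⟩ := h1 i (Finset.mem_range.1 hi)
    rw [h2, h3, TensorProduct.zero_tmul, TensorProduct.zero_tmul, add_zero]
  have hsurj : Function.Surjective θ := by
    have h1 := hgen θ.toRingHom.range (fun r => ⟨r ⊗ₜ 1, by
      change θ (r ⊗ₜ 1) = _
      rw [hθ, map_one, mul_one]⟩) ⟨1 ⊗ₜ cx a b, by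
      change θ (1 ⊗ₜ _) = _
      rw [hθ, map_one, one_mul]⟩ ⟨1 ⊗ₜ cy a b, by
      change θ (1 ⊗ₜ _) = _
      rw [hθ, map_one, one_mul]⟩
    intro z
    have hz : z ∈ (⊤ : Subring B) := trivial
    rw [← h1] at hz
    exact hz
  let e : A ⊗[k] (W a b).CoordinateRing ≃+* B := RingEquiv.ofBijective θ.toRingHom ⟨hinj, hsurj⟩
  refine (CommRingCat.isPushout_tensorProduct k A (W a b).CoordinateRing).of_iso (Iso.refl _) (Iso.refl _)
    (Iso.refl _) e.toCommRingCatIso (by simp [RingHom.algebraMap_toAlgebra]) (by simp) ?_ ?_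
  · apply CommRingCat.hom_ext
    apply RingHom.ext
    intro r
    change θ (r ⊗ₜ 1) = β r
    rw [hθ, map_one, mul_one]
  · apply CommRingCat.hom_ext
    apply RingHom.ext
    intro r
    change θ (1 ⊗ₜ r) = ψ r
    rw [hθ, map_one, one_mul]

end alg

section geo

/-- Affine charts with affine preimage as cartesian squares. -/
theorem isPullback_fromSpec {X Y : Scheme.{u}} (f : X ⟶ Y) {V : Y.Opens} (hV : IsAffineOpen V)
    (hV' : IsAffineOpen (f ⁻¹ᵁ V)) : IsPullback hV'.fromSpec (Spec.map (f.app V)) f hV.fromSpec := by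
  refine (IsOpenImmersion.isPullback _ _ _ _ ?_ ?_).flip
  · rw [Scheme.Hom.app_eq_appLE]
    exact (hV.SpecMap_appLE_fromSpec f hV' le_rfl).symm
  · rw [IsAffineOpen.opensRange_fromSpec, IsAffineOpen.opensRange_fromSpec]

/-- A morphism to an affine scheme in a chart. -/
theorem fromSpec_comp {X : Scheme.{u}} {R : CommRingCat.{u}} (g : X ⟶ Spec R) {V : X.Opens} (hV : IsAffineOpen V) :
    hV.fromSpec ≫ g = Spec.map ((Scheme.ΓSpecIso R).inv ≫ g.appTop ≫ X.presheaf.map (homOfLE le_top).op) := by
  have h1 : g = X.toSpecΓ ≫ Spec.map ((Scheme.ΓSpecIso R).inv ≫ g.appTop) := by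
    rw [Spec.map_comp, ← Category.assoc, ← Scheme.toSpecΓ_naturality, Category.assoc]
    have : (Spec R).toSpecΓ ≫ Spec.map (Scheme.ΓSpecIso R).inv = 𝟙 _ := by
      rw [toSpecΓ_SpecMap_ΓSpecIso_inv]
    rw [this, Category.comp_id]
  conv_lhs => rw [h1]
  rw [← Category.assoc, IsAffineOpen.fromSpec_toSpecΓ, ← Spec.map_comp, Category.assoc]

/-- A square which is cartesian over an affine cover (with affine preimages) is cartesian. -/
theorem isPullback_of_charts {Z D P S : Scheme.{u}} (q : D ⟶ Z) (χ : D ⟶ P) (s : Z ⟶ S) (g : P ⟶ S)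
    (H : ∀ z : Z, ∃ (U : Z.Opens) (hU : IsAffineOpen U) (hV : IsAffineOpen (q ⁻¹ᵁ U)), z ∈ U ∧
      IsPullback (Spec.map (q.app U)) (hV.fromSpec ≫ χ) (hU.fromSpec ≫ s) g) :
    IsPullback q χ s g := by
  choose U hU hV hz H using H
  have key : ∀ z, IsPullback (pullback.snd q (hU z).fromSpec) (pullback.fst q (hU z).fromSpec ≫ χ)
      ((hU z).fromSpec ≫ s) g := by
    intro z
    have h1 : IsPullback (hV z).fromSpec (Spec.map (q.app (U z))) q (hU z).fromSpec :=
      isPullback_fromSpec q (hU z) (hV z)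
    refine (H z).of_iso h1.isoPullback (Iso.refl _) (Iso.refl _) (Iso.refl _) ?_ ?_ ?_ ?_
    · rw [Iso.refl_hom, Category.comp_id]
      exact h1.isoPullback_hom_snd.symm
    · rw [Iso.refl_hom, Category.comp_id, ← Category.assoc]
      exact congrArg (· ≫ χ) h1.isoPullback_hom_fst.symm
    · rw [Iso.refl_hom, Iso.refl_hom, Category.comp_id, Category.id_comp]
    · rw [Iso.refl_hom, Iso.refl_hom, Category.comp_id, Category.id_comp]
  let 𝒰 : Z.OpenCover := Scheme.Cover.mkOfCovers Z (fun z => Spec Γ(Z, U z)) (fun z => (hU z).fromSpec)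
    (fun z => by
      have h1 : z ∈ (hU z).fromSpec.opensRange := by
        rw [IsAffineOpen.opensRange_fromSpec]
        exact hz z
      obtain ⟨w, hw⟩ := h1
      exact ⟨z, w, hw⟩)
  exact Scheme.isPullback_of_openCover _ _ _ _ 𝒰 fun z => key z

end geo

section main

variable {k : Type u} [Field k] (a b : k)

/-- the ring map out of the coordinate ring given by a solution of the Weierstrass equation -/
theorem exists_ringHom {B : Type u} [CommRing B] (φ : k →+* B) (x y : B)
    (h : y ^ 2 = x ^ 3 + φ a * x + φ b) :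
    ∃ ψ : (W a b).CoordinateRing →+* B, ψ.comp (algebraMap k (W a b).CoordinateRing) = φ ∧
      ψ (cx a b) = x ∧ ψ (cy a b) = y := by
  have h0 : Polynomial.eval₂ (Polynomial.eval₂RingHom φ x) y (W a b).polynomial = 0 := by
    simp only [WeierstrassCurve.Affine.polynomial]
    simp [Polynomial.eval₂_add, Polynomial.eval₂_sub, Polynomial.eval₂_mul, Polynomial.eval₂_pow, h]
  refine ⟨AdjoinRoot.lift (Polynomial.eval₂RingHom φ x) y h0, ?_, ?_, ?_⟩
  · apply RingHom.ext
    intro r
    rw [RingHom.comp_apply, IsScalarTower.algebraMap_apply k (Polynomial k) (W a b).CoordinateRing,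
      Polynomial.algebraMap_eq]
    have h1 : algebraMap (Polynomial k) (W a b).CoordinateRing (Polynomial.C r) =
      AdjoinRoot.of (W a b).polynomial (Polynomial.C r) := rfl
    rw [h1]
    refine (AdjoinRoot.lift_of h0).trans ?_
    simp
  · have h1 : cx a b = AdjoinRoot.of (W a b).polynomial Polynomial.X := rfl
    rw [h1]
    refine (AdjoinRoot.lift_of h0).trans ?_
    simp
  · have h1 : cy a b = AdjoinRoot.root (W a b).polynomial := rfl
    rw [h1]
    exact AdjoinRoot.lift_root h0

/-- Node B. -/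
theorem isPullback (k : Type u) [Field k] {Z D : Scheme.{u}} (s : Z ⟶ Spec (CommRingCat.of k))
    (q : D ⟶ Z) (a b : k) (x y : Γ(D, ⊤))
    (heq : y ^ 2 = x ^ 3 + (q ≫ s).appTop ((Scheme.ΓSpecIso (CommRingCat.of k)).inv a) * x +
      (q ≫ s).appTop ((Scheme.ΓSpecIso (CommRingCat.of k)).inv b))
    (hcov : ∀ z : Z, ∃ W : Z.Opens, z ∈ W ∧ IsAffineOpen W ∧ IsAffineOpen (q ⁻¹ᵁ W) ∧
      (∀ S : Subring Γ(D, q ⁻¹ᵁ W), (∀ r : Γ(Z, W), q.app W r ∈ S) →
        D.presheaf.map (homOfLE le_top).op x ∈ S → D.presheaf.map (homOfLE le_top).op y ∈ S → S = ⊤) ∧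
      (∀ (n : ℕ) (c d : ℕ → Γ(Z, W)), ∑ i ∈ Finset.range n,
          (q.app W (c i) * D.presheaf.map (homOfLE le_top).op x ^ i +
            q.app W (d i) * (D.presheaf.map (homOfLE le_top).op x ^ i * D.presheaf.map (homOfLE le_top).op y)) = 0 →
        ∀ i < n, c i = 0 ∧ d i = 0)) :
    ∃ χ : D ⟶ Spec (CommRingCat.of (W a b).CoordinateRing),
      IsPullback χ q (Spec.map (CommRingCat.ofHom (algebraMap k (W a b).CoordinateRing))) s ∧
      χ.appTop ((Scheme.ΓSpecIso (CommRingCat.of (W a b).CoordinateRing)).inv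
        (algebraMap (Polynomial k) (W a b).CoordinateRing Polynomial.X)) = x ∧
      χ.appTop ((Scheme.ΓSpecIso (CommRingCat.of (W a b).CoordinateRing)).inv
        (WeierstrassCurve.Affine.CoordinateRing.mk (W a b) Polynomial.X)) = y := by
  obtain ⟨ψ, hψ, hx, hy⟩ := exists_ringHom a b
    ((Scheme.ΓSpecIso (CommRingCat.of k)).inv ≫ (q ≫ s).appTop).hom x y heq
  have hψ' : CommRingCat.ofHom (algebraMap k (W a b).CoordinateRing) ≫ CommRingCat.ofHom ψ =
      (Scheme.ΓSpecIso (CommRingCat.of k)).inv ≫ (q ≫ s).appTop := by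
    apply CommRingCat.hom_ext
    exact hψ
  have happ : (D.toSpecΓ ≫ Spec.map (CommRingCat.ofHom ψ)).appTop =
      (Scheme.ΓSpecIso (CommRingCat.of (W a b).CoordinateRing)).hom ≫ CommRingCat.ofHom ψ := by
    rw [Scheme.Hom.comp_appTop, Scheme.toSpecΓ_appTop, Scheme.ΓSpecIso_naturality]
  refine ⟨D.toSpecΓ ≫ Spec.map (CommRingCat.ofHom ψ), ?_, ?_, ?_⟩
  · refine (isPullback_of_charts q _ s _ fun z => ?_).flip
    obtain ⟨U, hz, hU, hV, hgen, hind⟩ := hcov z
    refine ⟨U, hU, hV, hz, ?_⟩
    rw [fromSpec_comp s hU, ← Category.assoc, IsAffineOpen.fromSpec_toSpecΓ, ← Spec.map_comp]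
    refine isPullback_SpecMap_of_isPushout _ _ _ _ ?_
    refine isPushout_of a b ((Scheme.ΓSpecIso (CommRingCat.of k)).inv ≫ s.appTop ≫
      Z.presheaf.map (homOfLE le_top).op).hom (q.app U).hom
      (CommRingCat.ofHom ψ ≫ D.presheaf.map (homOfLE le_top).op).hom ?_ ?_ ?_
    · have h1 : CommRingCat.ofHom (algebraMap k (W a b).CoordinateRing) ≫ CommRingCat.ofHom ψ ≫
          D.presheaf.map (homOfLE le_top).op = ((Scheme.ΓSpecIso (CommRingCat.of k)).inv ≫ s.appTop ≫
            Z.presheaf.map (homOfLE le_top).op) ≫ q.app U := by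
        rw [← Category.assoc, hψ', Category.assoc, Category.assoc, Category.assoc, Scheme.Hom.comp_appTop,
          Category.assoc, Scheme.Hom.naturality]
        rfl
      exact (congrArg CommRingCat.Hom.hom h1).symm
    · intro S h1 h2 h3
      refine hgen S h1 ?_ ?_
      · rw [← hx]
        exact h2
      · rw [← hy]
        exact h3
    · intro n c d h1
      refine hind n c d ?_
      rw [← hx, ← hy]
      exact h1
  · rw [happ]
    refine Eq.trans ?_ hx
    change (CommRingCat.ofHom ψ) ((Scheme.ΓSpecIso (CommRingCat.of (W a b).CoordinateRing)).hom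
      ((Scheme.ΓSpecIso (CommRingCat.of (W a b).CoordinateRing)).inv _)) = _
    rw [Iso.inv_hom_id_apply (C := CommRingCat)]
    rfl
  · rw [happ]
    refine Eq.trans ?_ hy
    change (CommRingCat.ofHom ψ) ((Scheme.ΓSpecIso (CommRingCat.of (W a b).CoordinateRing)).hom
      ((Scheme.ΓSpecIso (CommRingCat.of (W a b).CoordinateRing)).inv _)) = _
    rw [Iso.inv_hom_id_apply (C := CommRingCat)]
    rfl

end main

end K665.NodeB
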