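import Groth.Agent.Biell.K665.Vert
import Groth.Agent.Surf.K455.SmoothRR
import Groth.Agent.Surf.K455.Pos
import Groth.Agent.Surf.K455.Canon
import Groth.Agent.Pi1.H538.RelDimOne
import Groth.Agent.AbVar.K518.Sec
import Groth.Prelude.Def_Pic13

/-!
# Numerics on a smooth proper surface with numerically trivial canonical class fibred over a curve of genus one

`Setup k f ω`: the data. `w` the class of `ω`.
* `euler_eq`, `serre0/1/2`, `rr : 2 χ(c) = (c . c)`;
* `dot_w`-lemmas: `(ic D . w) = 0`, `(f^* b . w) = 0`, `(H . w) = 0` for `H` ample;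
* `eq_one_of_h0`: an effective class of degree `0` against an ample class is trivial;
* `dot_pull_ample_of_deg_zero`, `dot_pull_ample_pos`.
* `le_h0_w_pull : deg a ≤ h⁰(w f^* a)`.
-/

set_option autoImplicit false
universe u
open CategoryTheory CategoryTheory.Limits AlgebraicGeometry Opposite TopologicalSpace

namespace K665.Num

open Groth.Agent Groth.Agent.Grpsch.PicGrp Groth.Agent.Fdesc.LocGen K532.CurvePic K532.CurvePts
open K464.Base K464.Curves K464.Comp Groth.Agent.Dix.IdealModCartier Groth.Agent.Divis.EffCartier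

/-- The data. -/
structure Setup (k : Type u) [Field k] {X E : Scheme.{u}} [X.Over (Spec (CommRingCat.of k))]
    [E.Over (Spec (CommRingCat.of k))] (f : X ⟶ E) (ω : X.Modules) : Prop where
  ov : f ≫ (E ↘ Spec (CommRingCat.of k)) = X ↘ Spec (CommRingCat.of k)
  hE : K532.CurvePic.IsCurve k E
  hg : gen k E = 1
  hfib : IsIso (ClSub.unitToPush f)
  int : IsIntegral X
  proper : IsProper (X ↘ Spec (CommRingCat.of k))
  smooth : SmoothOfRelativeDimension 2 (X ↘ Spec (CommRingCat.of k))
  ample : ∃ H : X.Modules, CohB1.IsAmple H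
  canon : ExtPow.IsExtPow 2 (Omega.sheaf (X ↘ Spec (CommRingCat.of k))) ω
  num : Pic13.IsNumEquivZero k X ω
  chi0 : FGA.eulerCharLE k X (Coh.structureModule X) 2 = 0
  self : ∀ (I : X.IdealSheafData) [IsIntegral I.subscheme], topologicalKrullDim I.subscheme = 1 →
    0 ≤ FGA.intNum k X 2 ![ClSub.idealMod I, ClSub.idealMod I] (Coh.structureModule X)

variable {k : Type u} [Field k] [IsAlgClosed k] {X E : Scheme.{u}} [X.Over (Spec (CommRingCat.of k))]
    [E.Over (Spec (CommRingCat.of k))] {f : X ⟶ E} {ω : X.Modules} (S : Setup k f ω)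

include S

omit [IsAlgClosed k] in
theorem dim : topologicalKrullDim X = 2 := by
  have := S.int
  have := S.smooth
  exact_mod_cast Pi1.H538.RelDimOne.topologicalKrullDim_eq k X (X ↘ Spec (CommRingCat.of k)) 2

omit [IsAlgClosed k] in
theorem dim_le : topologicalKrullDim X ≤ (2 : ℕ) := (dim S).le.trans (by norm_num)

omit [IsAlgClosed k] in
theorem isInv : PicF.IsInvertible ω := by
  have := S.smooth
  have := S.proper
  exact K455.Canon.isInvertible (X ↘ Spec (CommRingCat.of k)) 2 S.canon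

omit [IsAlgClosed k] in
theorem isSmooth : Smooth (X ↘ Spec (CommRingCat.of k)) := by
  have := S.smooth
  exact SmoothOfRelativeDimension.smooth 2 _

omit [IsAlgClosed k] in
theorem isProper_f : IsProper f := by
  have := S.proper
  have := S.hE.proper
  have : IsProper (f ≫ (E ↘ Spec (CommRingCat.of k))) := by rw [S.ov]; infer_instance
  exact IsProper.of_comp f (E ↘ Spec (CommRingCat.of k))

omit [IsAlgClosed k] in
theorem isNoeth : IsNoetherian X := by
  have := S.proper
  exact Fga.IntAdd.isNoetherian k X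

/-- The class of `ω`. -/
noncomputable def w : Pic X := mk ω (isInv S)

omit [IsAlgClosed k] in
theorem finite_HH {L : X.Modules} (hL : PicF.IsInvertible L) (i : ℕ) : Module.Finite k (Coh.HH X L i) := by
  have := S.proper
  exact S0002.result k X L (isCoh_of_isInvertible k X hL) i

omit [IsAlgClosed k] in
theorem euler_eq (c : Pic X) : chi k X c = (h k X 0 c : ℤ) - h k X 1 c + h k X 2 c := by
  have := S.proper
  obtain ⟨L, hL, rfl⟩ := exists_mk c
  rw [chi_mk, ← Fga.IntAdd.eulerCharLE_eq k X 2 (dim_le S), h_mk, h_mk, h_mk]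
  unfold FGA.eulerCharLE
  simp [Finset.sum_range_succ]
  ring

omit [IsAlgClosed k] in
theorem serre_aux (c : Pic X) (m p : ℕ) (hmp : m + p = 2) : h k X p c = h k X m (w S * c⁻¹) := by
  have := S.proper
  have := S.smooth
  obtain ⟨L, hL, rfl⟩ := exists_mk c
  obtain ⟨L', hL', e⟩ := exists_inverse hL
  have h1 : (mk L hL)⁻¹ = mk L' hL' := by
    rw [inv_eq_iff_mul_eq_one, mk_mul_mk]
    exact (mk_eq_one_iff _).2 e
  rw [h1, w, mk_mul_mk, h_mk, h_mk]
  exact K455.SmoothRR.finrank_dual k S.canon hL e m p hmp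

omit [IsAlgClosed k] in
theorem serre2 (c : Pic X) : h k X 2 c = h k X 0 (w S * c⁻¹) := serre_aux S c 0 2 rfl

omit [IsAlgClosed k] in
theorem serre1 (c : Pic X) : h k X 1 c = h k X 1 (w S * c⁻¹) := serre_aux S c 1 1 rfl

omit [IsAlgClosed k] in
theorem serre0 (c : Pic X) : h k X 0 c = h k X 2 (w S * c⁻¹) := serre_aux S c 2 0 rfl

omit [IsAlgClosed k] in
theorem chi_one_eq : chi k X 1 = 0 := by
  have := S.proper
  rw [chi_one, ← Fga.IntAdd.eulerCharLE_eq k X 2 (dim_le S), S.chi0]

omit [IsAlgClosed k] in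
/-- Riemann-Roch. -/
theorem rr' (c : Pic X) : 2 * chi k X c = dot k X c c - dot k X c (w S) := by
  have := S.proper
  have := S.smooth
  obtain ⟨L, hL, rfl⟩ := exists_mk c
  have h1 := K455.SmoothRR.rr k S.canon (dim_le S) hL
  rw [S.chi0, Fga.IntAdd.eulerCharLE_eq k X 2 (dim_le S), intNum_eq_dot k X (dim_le S) hL hL,
    intNum_eq_dot k X (dim_le S) hL (isInv S)] at h1
  rw [chi_mk, w, h1]
  ring

/-! ### The canonical class is numerically trivial -/

omit [IsAlgClosed k] in
theorem degOn_w {C : X.IdealSheafData} (hC : K464.Curves.IsCurve C) : degOn k X C (w S) = 0 := by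
  have := S.proper
  letI := overC k X C
  have := isProper_sub k X C
  have hd : topologicalKrullDim C.subscheme = 1 := (dim_sub X C).trans hC.dim
  have h1 := S.num C.subscheme C.subschemeι hC.integral hd
  rw [w, degOn_eq_deg k X C (isInv S), Curv2.deg, ← Etcore.DegZero.eulerCharLE_eq k C.subscheme hd,
    ← Etcore.DegZero.eulerCharLE_eq k C.subscheme hd]
  push_cast
  rw [one_mul]
  exact h1

omit [IsAlgClosed k] in
theorem dot_ic_w {D : X.IdealSheafData} (hD : BlowUp.IsEffCartierIdeal D) : dot k X (ic D hD) (w S) = 0 := by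
  have := S.proper
  have := S.int
  have := isSmooth S
  have h1 : 0 ≤ degOn k X D (w S) :=
    degOn_nonneg_of_forall k (dim S) (fun C hC => (degOn_w S hC).ge) hD
  have h2 : 0 ≤ degOn k X D (w S)⁻¹ :=
    degOn_nonneg_of_forall k (dim S) (fun C hC => by rw [degOn_inv k hC, degOn_w S hC, neg_zero]) hD
  rw [degOn_eq_neg_dot k X hD] at h1 h2
  rw [dot_inv_right k X (dim_le S)] at h2
  linarith

theorem dot_pull_w (b : Pic E) : dot k X (pull f b) (w S) = 0 := by
  have := S.proper
  have := S.int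
  have := S.hfib
  refine GenOne.eq_zero_of_pcl S.hE S.hg (fun a => dot k X (pull f a) (w S)) (fun a a' => ?_) (fun x => ?_) b
  · rw [map_mul, dot_mul_left k X (dim_le S)]
  · rw [← Vert.ic_fb f S.hfib S.hE x]
    exact dot_ic_w S _

theorem dot_pull_pull (a b : Pic E) : dot k X (pull f a) (pull f b) = 0 := by
  have := S.proper
  have := S.int
  exact Vert.dot_pull_pull f S.hfib S.hE S.hg (dim_le S) a b

theorem chi_pull (b : Pic E) : chi k X (pull f b) = 0 := by
  have h1 := rr' S (pull f b)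
  rw [dot_pull_pull S, dot_pull_w S] at h1
  linarith

omit [IsAlgClosed k] in
/-- The divisor of a section. -/
theorem exists_divisor {c : Pic X} (hc : 0 < h k X 0 c) :
    ∃ (D : X.IdealSheafData) (hD : BlowUp.IsEffCartierIdeal D), c = (ic D hD)⁻¹ := by
  have := S.proper
  have := S.int
  obtain ⟨L, hL, rfl⟩ := exists_mk c
  have := finite_HH S hL 0
  rw [h_mk, Module.finrank_pos_iff] at hc
  obtain ⟨s, hs⟩ := exists_ne (0 : Coh.HH X L 0)
  obtain ⟨D, hD, h1⟩ := K455.Pos.exists_divisor hL (VarietyA.CurveLin.secOf L s)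
    (fun h => hs ((VarietyA.CurveLin.secOf L).map_eq_zero_iff.mp h))
  refine ⟨D, hD, ?_⟩
  rw [eq_inv_iff_mul_eq_one, ic, mk_mul_mk, mk_eq_one_iff]
  rw [← Fga.PicMon.mc_tensor, ← Fga.PicMon.mc_one, Fga.PicMon.mc_eq_iff] at h1
  exact h1

omit [IsAlgClosed k] in
theorem dot_ample_w {H : X.Modules} (hH : CohB1.IsAmple H) : dot k X (mk H hH.1) (w S) = 0 := by
  have := S.proper
  have := S.int
  obtain ⟨n, s, hx, -⟩ := hH.2.2 (genericPoint X)
  have hs : sec s ⊤ ≠ 0 := by
    intro h0
    have h1 : s = 0 := hom_ext_sec h0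
    rw [h1, K518.Sec.genLocus_eq_bot_of_eq_zero] at hx
    exact hx
  have hpos : 0 < h k X 0 (mk (CohB1.tensorPow H (n + 1)) (isInvertible_tensorPow hH.1 (n + 1))) := by
    have := finite_HH S (isInvertible_tensorPow hH.1 (n + 1)) 0
    rw [h_mk, Module.finrank_pos_iff]
    refine ⟨(VarietyA.CurveLin.secOf _).symm (sec s ⊤), 0, fun h => hs ?_⟩
    have := congrArg (VarietyA.CurveLin.secOf _) h
    rwa [AddEquiv.apply_symm_apply, map_zero] at this
  obtain ⟨D, hD, h2⟩ := exists_divisor S hpos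
  rw [mk_tensorPow hH.1] at h2
  have h3 := dot_ic_w S hD
  have h4 : dot k X (mk H hH.1 ^ (n + 1)) (w S) = 0 := by
    rw [h2, dot_inv_left k X (dim_le S), h3, neg_zero]
  rw [dot_pow_left k X (dim_le S)] at h4
  rcases mul_eq_zero.1 h4 with h5 | h5
  · exact absurd h5 (by positivity)
  · exact h5

omit [IsAlgClosed k] in
theorem eq_one_of_h0 {H : X.Modules} (hH : CohB1.IsAmple H) {c : Pic X} (hc : 0 < h k X 0 c)
    (hd : dot k X c (mk H hH.1) ≤ 0) : c = 1 := by
  have := S.proper
  have := S.int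
  have := isSmooth S
  obtain ⟨D, hD, rfl⟩ := exists_divisor S hc
  by_cases hne : D = ⊤
  · subst hne
    rw [show ic (⊤ : X.IdealSheafData) hD = ic ⊤ isEff_top from rfl, ic_top, inv_one]
  · have h1 := degOn_pos_of_ample_eff k (dim S) hH.1 hH hD hne
    rw [degOn_eq_neg_dot k X hD] at h1
    rw [dot_inv_left k X (dim_le S)] at hd
    linarith

omit [IsAlgClosed k] in
theorem dot_ample_nonneg {H : X.Modules} (hH : CohB1.IsAmple H) {c : Pic X} (hc : 0 < h k X 0 c) :
    0 ≤ dot k X c (mk H hH.1) := by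
  have := S.proper
  have := S.int
  have := isSmooth S
  obtain ⟨D, hD, rfl⟩ := exists_divisor S hc
  have h1 := degOn_nonneg_of_forall k (dim S) (a := mk H hH.1)
    (fun C hC => (degOn_pos_of_ample k hC hH.1 hH).le) hD
  rw [degOn_eq_neg_dot k X hD] at h1
  rw [dot_inv_left k X (dim_le S)]
  exact h1

theorem dot_pull_ample_pos {H : X.Modules} (hH : CohB1.IsAmple H) {a : Pic E} (ha : deg k E a = 1) :
    0 < dot k X (pull f a) (mk H hH.1) := by
  have := S.proper
  have := S.int
  have := isSmooth S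
  have := isProper_f S
  obtain ⟨x, rfl⟩ := GenOne.exists_pt S.hE S.hg ha
  rw [map_inv, ← Vert.ic_fb f S.hfib S.hE x, dot_inv_left k X (dim_le S)]
  have h2 := degOn_pos_of_ample_eff k (dim S) hH.1 hH (Vert.isEff_fb f S.hfib S.hE x) (by
    intro htop
    have := Vert.surjective f S.hfib
    obtain ⟨y, hy⟩ := f.surjective (pnt x)
    have h3 : y ∈ (Vert.fb f x).support := (Vert.mem_support_fb f S.hE x y).2 hy
    rw [htop, Scheme.IdealSheafData.support_top] at h3
    exact h3)
  rw [degOn_eq_neg_dot k X (Vert.isEff_fb f S.hfib S.hE x)] at h2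
  exact h2

theorem dot_pull_ample_of_deg_zero {H : X.Modules} (hH : CohB1.IsAmple H) {b : Pic E} (hb : deg k E b = 0) :
    dot k X (pull f b) (mk H hH.1) = 0 := by
  have := S.proper
  obtain ⟨x, -⟩ := GenOne.exists_pt_notMem S.hE ∅
  have h1 : deg k E (pcl S.hE x)⁻¹ = 1 := by rw [deg_inv S.hE, deg_pcl, neg_neg]
  have key : ∀ n : ℤ, 0 < dot k X (pull f (pcl S.hE x)⁻¹) (mk H hH.1) + n * dot k X (pull f b) (mk H hH.1) := by
    intro n
    have h2 : deg k E ((pcl S.hE x)⁻¹ * b ^ n) = 1 := by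
      rw [deg_mul S.hE, h1, GenOne.deg_zpow S.hE, hb]; ring
    have h3 := dot_pull_ample_pos S hH h2
    rwa [map_mul, map_zpow, dot_mul_left k X (dim_le S), dot_zpow_left k X (dim_le S)] at h3
  by_contra hne
  set A := dot k X (pull f (pcl S.hE x)⁻¹) (mk H hH.1)
  set B := dot k X (pull f b) (mk H hH.1)
  have h4 := key (-(A * B))
  have h5 := key 0
  have h6 : 1 ≤ B * B := by
    have : 0 < B * B := mul_self_pos.2 hne
    omega
  nlinarith

/-- `deg a ≤ h⁰(w f^* a)` for `deg a > 0`. -/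
theorem le_h0_w_pull {a : Pic E} (ha : 0 < deg k E a) : deg k E a ≤ h k X 0 (w S * pull f a) := by
  have := S.proper
  have h1 := euler_eq S (pull f a⁻¹)
  rw [chi_pull S, serre2 S, map_inv, inv_inv, ← map_inv, PicH.h0_pull k f S.ov S.hfib,
    GenOne.h0_inv_eq_zero S.hE ha] at h1
  have h2 := PicH.h1_le_pull k f S.ov S.hfib a⁻¹
  have h3 := GenOne.h1_inv_eq S.hE S.hg ha
  push_cast at h1
  omega

end K665.Num
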