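import Groth.Agent.JacVar.K532.CurvePic
import Groth.Agent.Coh.K415.LerayGen
import Groth.Agent.VarietyB.ProjForm
import Groth.Agent.Fga.HodgePush

/-!
# Cohomology of classes of invertible modules under a morphism with `f_* O_X = O_Y`

`h k X i c` is `K532.CurvePic.h`.
* `nonempty_push_iso`: `f_* (N ⊗ f^* B) ≅ f_* N ⊗ B`;
* `finrank_push_zero`: `h⁰(Y, f_* G) = h⁰(X, G)`; `finrank_push_one_le`: `h¹(Y, f_* G) ≤ h¹(X, G)`;
* for `f_* O_X = O_Y`: `h0_pull : h⁰(f^* c) = h⁰(c)`, `h1_le_pull : h¹(c) ≤ h¹(f^* c)`.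
-/

set_option autoImplicit false
universe u
open CategoryTheory CategoryTheory.Limits AlgebraicGeometry Opposite TopologicalSpace

namespace K665.PicH

open Groth.Agent Groth.Agent.Grpsch.PicGrp Groth.Agent.Fdesc.LocGen K532.CurvePic

section iso

variable {X Y : Scheme.{u}} (f : X ⟶ Y)

/-- The projection formula. -/
theorem nonempty_push_iso (N : X.Modules) {B : Y.Modules} (hB : PicF.IsInvertible B) :
    Nonempty ((Scheme.Modules.pushforward f).obj (CohB1.tensorMod N ((Scheme.Modules.pullback f).obj B)) ≅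
      CohB1.tensorMod ((Scheme.Modules.pushforward f).obj N) B) :=
  ⟨(Scheme.Modules.pushforward f).mapIso (Ega2.Tens.swap N ((Scheme.Modules.pullback f).obj B)) ≪≫
    (VarietyB.ProjForm.projIso f (Fga.HodgePush.hasBases_of_isInvertible hB) N).symm ≪≫
      Ega2.Tens.swap B ((Scheme.Modules.pushforward f).obj N)⟩

/-- `f_* f^* B ≅ B` if `f_* O_X = O_Y`. -/
theorem nonempty_push_pull_iso (hfib : IsIso (ClSub.unitToPush f)) {B : Y.Modules} (hB : PicF.IsInvertible B) :
    Nonempty ((Scheme.Modules.pushforward f).obj ((Scheme.Modules.pullback f).obj B) ≅ B) :=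
  ⟨(VarietyB.ProjForm.projIsoUnit f (Fga.HodgePush.hasBases_of_isInvertible hB)).symm ≪≫
    Ega2.Tens.mapTIso (Iso.refl B) (asIso (ClSub.unitToPush f)).symm ≪≫ Ega2.Tens.runit B⟩

end iso

section lin

variable (k : Type u) [Field k] {X Y : Scheme.{u}} [X.Over (Spec (CommRingCat.of k))]
  [Y.Over (Spec (CommRingCat.of k))] (f : X ⟶ Y)
  (hf : f ≫ (Y ↘ Spec (CommRingCat.of k)) = X ↘ Spec (CommRingCat.of k))

theorem finrank_iso {M N : X.Modules} (e : M ≅ N) (i : ℕ) :
    Module.finrank k (Coh.HH X M i) = Module.finrank k (Coh.HH X N i) :=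
  (CurvesA.HHMap.equivOver k e i).finrank_eq

include hf

theorem finrank_push_zero (G : X.Modules) :
    Module.finrank k (Coh.HH Y ((Scheme.Modules.pushforward f).obj G) 0) = Module.finrank k (Coh.HH X G 0) :=
  (((VarietyB.HHLes.toHH k _ 0).symm.trans (VarietyB.HHPush.zeroEquiv f k hf G)).trans
    (VarietyB.HHLes.toHH k G 0)).finrank_eq

theorem finrank_push_one_le (G : X.Modules) [Module.Finite k (Coh.HH X G 1)] :
    Module.finrank k (Coh.HH Y ((Scheme.Modules.pushforward f).obj G) 1) ≤ Module.finrank k (Coh.HH X G 1) := by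
  obtain ⟨φ, hφ⟩ := K415.LerayGen.exists_injective_one f k hf G
  exact LinearMap.finrank_le_finrank_of_injective hφ

/-- `h⁰(X, N ⊗ f^* B) = h⁰(Y, f_* N ⊗ B)`. -/
theorem h0_mul_pull {N : X.Modules} (hN : PicF.IsInvertible N)
    (hM : PicF.IsInvertible ((Scheme.Modules.pushforward f).obj N)) (b : Pic Y) :
    h k X 0 (mk N hN * pull f b) = h k Y 0 (mk _ hM * b) := by
  obtain ⟨B, hB, rfl⟩ := exists_mk b
  rw [pull_mk f hB, mk_mul_mk, mk_mul_mk, h_mk, h_mk]
  obtain ⟨e⟩ := nonempty_push_iso f N hB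
  rw [← finrank_push_zero k f hf, finrank_iso k e]

variable (hfib : IsIso (ClSub.unitToPush f))

include hfib

theorem h0_pull (c : Pic Y) : h k X 0 (pull f c) = h k Y 0 c := by
  obtain ⟨B, hB, rfl⟩ := exists_mk c
  rw [pull_mk f hB, h_mk, h_mk]
  obtain ⟨e⟩ := nonempty_push_pull_iso f hfib hB
  rw [← finrank_push_zero k f hf, finrank_iso k e]

theorem h1_le_pull [IsProper (X ↘ Spec (CommRingCat.of k))] (c : Pic Y) :
    h k Y 1 c ≤ h k X 1 (pull f c) := by
  obtain ⟨B, hB, rfl⟩ := exists_mk c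
  have hB' := isInvertible_pullback f hB
  have := CurvesC.CurveCoh.noetherianSpace k X
  have : Module.Finite k (Coh.HH X ((Scheme.Modules.pullback f).obj B) 1) :=
    S0002.result k X _ (S2329.isCoh_of_isInvertible hB') 1
  rw [pull_mk f hB, h_mk, h_mk]
  obtain ⟨e⟩ := nonempty_push_pull_iso f hfib hB
  rw [← finrank_iso k e]
  exact finrank_push_one_le k f hf _

end lin

end K665.PicH
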