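import Groth.Agent.Surf.K464.Comp
import Groth.Agent.Biell.K665.GenOne
import Groth.Agent.Biell.K665.PicH

/-!
# Fibres of a morphism from a proper surface to a smooth proper curve

`f : X ⟶ E`, `X` integral, `f_* O_X = O_E`.
* `bij_app`, `isDominant`, `surjective`;
* `fb f x`: the ideal of the fibre over a rational point `x`; `isEff_fb`, `ic_fb : ic (fb f x) = f^* [I_x]`;
* `exists_factor`, `pull_sub_pull`: a closed subscheme of a fibre; `f^* b` is trivial on it;
* `degOn_pull_eq_zero`; `dot_pull_pull : (f^* a . f^* b) = 0`.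
-/

set_option autoImplicit false
universe u
open CategoryTheory CategoryTheory.Limits AlgebraicGeometry Opposite TopologicalSpace

namespace K665.Vert

open Groth.Agent Groth.Agent.Grpsch.PicGrp Groth.Agent.Fdesc.LocGen K532.CurvePic K532.CurvePts
open K464.Base K464.Curves Groth.Agent.Dix.IdealModCartier Groth.Agent.Divis.EffCartier

section dom

variable {X E : Scheme.{u}} (f : X ⟶ E) (hfib : IsIso (ClSub.unitToPush f))

include hfib

theorem bij_app (U : E.Opens) : Function.Bijective (f.app U) := by
  rw [Scheme.Modules.Hom.isIso_iff_isIso_app] at hfib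
  have := hfib U
  rw [ConcreteCategory.isIso_iff_bijective] at this
  exact this

theorem nonempty_preimage (U : E.Opens) (hU : (U : Set E).Nonempty) : ((f ⁻¹ᵁ U : X.Opens) : Set X).Nonempty := by
  by_contra hne
  have h0 : f ⁻¹ᵁ U = ⊥ := by
    ext x
    simp only [Opens.coe_bot, Set.mem_empty_iff_false, iff_false]
    exact fun hx => hne ⟨x, hx⟩
  have h1 : Subsingleton Γ(X, f ⁻¹ᵁ U) := by
    rw [h0]
    exact inferInstance
  have h2 : Subsingleton Γ(E, U) := (bij_app f hfib U).1.subsingleton
  have : Nonempty U := hU.to_subtype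
  have h3 : (1 : Γ(E, U)) = 0 := Subsingleton.elim _ _
  exact one_ne_zero h3

theorem isDominant : IsDominant f := by
  refine ⟨?_⟩
  rw [DenseRange, dense_iff_inter_open]
  intro U hU hne
  obtain ⟨x, hx⟩ := nonempty_preimage f hfib ⟨U, hU⟩ hne
  exact ⟨f x, hx, x, rfl⟩

theorem surjective [IsProper f] : Surjective f := by
  refine ⟨?_⟩
  have h1 := isDominant f hfib
  have h2 : IsClosed (Set.range f) := f.isClosedMap.isClosed_range
  have h3 : DenseRange f := h1.denseRange
  intro y
  have h4 : y ∈ closure (Set.range f) := h3 y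
  rwa [h2.closure_eq] at h4

theorem apply_genericPoint [IsIntegral X] [IsIntegral E] : f (genericPoint X) = genericPoint E := by
  have h1 := isDominant f hfib
  have h2 := (genericPoint_spec X).image f.continuous
  rw [Set.image_univ, h1.denseRange.closure_range] at h2
  exact h2.eq (genericPoint_spec E)

end dom

section fibre

variable {k : Type u} [Field k] {X E : Scheme.{u}} [E.Over (Spec (CommRingCat.of k))] (f : X ⟶ E)

/-- The ideal of the fibre over a rational point. -/
noncomputable def fb (x : KPt k E) : X.IdealSheafData := x.1.ker.comap f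

theorem exists_factor [IsProper (E ↘ Spec (CommRingCat.of k))] (x : KPt k E) (J : X.IdealSheafData)
    (h : fb f x ≤ J) : ∃ g : J.subscheme ⟶ Spec (CommRingCat.of k), g ≫ x.1 = J.subschemeι ≫ f := by
  have hcl : IsClosedImmersion x.1 := by
    have : IsClosedImmersion (x.1 ≫ (E ↘ Spec (CommRingCat.of k))) := by rw [x.2]; infer_instance
    exact IsClosedImmersion.of_comp _ (E ↘ Spec (CommRingCat.of k))
  have h1 : x.1.ker ≤ (J.subschemeι ≫ f).ker := by
    rw [Scheme.Hom.ker_comp, Scheme.IdealSheafData.ker_subschemeι]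
    exact (Scheme.IdealSheafData.map_gc f).le_iff_le.1 h
  exact ⟨IsClosedImmersion.lift x.1 (J.subschemeι ≫ f) h1, IsClosedImmersion.lift_fac _ _ _⟩

/-- A class from the base is trivial on a closed subscheme of a fibre. -/
theorem pull_sub_pull [IsProper (E ↘ Spec (CommRingCat.of k))] (x : KPt k E) (J : X.IdealSheafData)
    (h : fb f x ≤ J) (b : Pic E) : pull J.subschemeι (pull f b) = 1 := by
  obtain ⟨g, hg⟩ := exists_factor f x J h
  rw [← pull_comp, ← hg, pull_comp]
  have h1 : pull x.1 b = 1 := pic_spec_local k _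
  rw [h1, map_one]

theorem mem_support_fb (hE : IsCurve k E) [IsAlgClosed k] (x : KPt k E) (y : X) :
    y ∈ (fb f x).support ↔ f y = pnt x := by
  unfold fb
  rw [Scheme.IdealSheafData.support_comap]
  change f y ∈ (x.1.ker.support : Set E) ↔ _
  rw [support_ker hE x, Set.mem_singleton_iff]

end fibre

section triv

variable (k : Type u) [Field k] (X : Scheme.{u}) [X.Over (Spec (CommRingCat.of k))]

/-- If `L` is trivial on `J` then `O_J ⊗ L ≅ O_J`. -/
theorem nonempty_quotMod_tensor (J : X.IdealSheafData) {L : X.Modules} (hL : PicF.IsInvertible L)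
    (h : pull J.subschemeι (mk L hL) = 1) : Nonempty (CohB1.tensorMod (ClSub.quotMod J) L ≅ ClSub.quotMod J) := by
  obtain ⟨e⟩ := nonempty_iso_push X J hL
  rw [pull_mk _ hL] at h
  obtain ⟨e'⟩ := (mk_eq_one_iff _).1 h
  exact ⟨e ≪≫ (Scheme.Modules.pushforward J.subschemeι).mapIso e'⟩

theorem degOn_eq_zero_of_pull (J : X.IdealSheafData) (c : Pic X) (h : pull J.subschemeι c = 1) :
    degOn k X J c = 0 := by
  obtain ⟨L, hL, rfl⟩ := exists_mk c
  obtain ⟨e⟩ := nonempty_quotMod_tensor X J hL h
  rw [degOn_mk, euler_congr k X e, sub_self]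

end triv

section surf

variable {k : Type u} [Field k] [IsAlgClosed k] {X E : Scheme.{u}} [X.Over (Spec (CommRingCat.of k))]
  [E.Over (Spec (CommRingCat.of k))] [IsIntegral X] (f : X ⟶ E) (hfib : IsIso (ClSub.unitToPush f))
  (hE : IsCurve k E)

include hfib hE

omit [X.Over (Spec (CommRingCat.of k))] in
theorem isEff_fb (x : KPt k E) : BlowUp.IsEffCartierIdeal (fb f x) := by
  have := hE.integral
  refine Dix.InterSurf.isEff_comap_of_generic f (isEff hE x) ?_
  rw [apply_genericPoint f hfib]
  intro hmem
  have h1 : genericPoint E = pnt x := by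
    have h2 : genericPoint E ∈ (x.1.ker.support : Set E) := hmem
    rwa [support_ker hE x, Set.mem_singleton_iff] at h2
  obtain ⟨y, hy⟩ := GenOne.exists_pt_notMem hE {x}
  have h2 : pnt y = pnt x := by
    have h3 : pnt y ∈ closure {genericPoint E} := by
      rw [show closure {genericPoint E} = (Set.univ : Set E) from genericPoint_spec E]; trivial
    rw [h1, (isClosed_pnt hE x).closure_eq] at h3
    exact h3
  exact hy (by rw [KPt.ext' hE h2]; exact Finset.mem_singleton_self _)

omit [X.Over (Spec (CommRingCat.of k))] in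
theorem ic_fb (x : KPt k E) : ic (fb f x) (isEff_fb f hfib hE x) = pull f (pcl hE x) := by
  obtain ⟨e⟩ := pullback_idealMod f (isEff hE x) (isEff_fb f hfib hE x)
  unfold pcl Fga.JacFactor.dcl ic
  rw [pull_mk f]
  exact mk_congr e.symm

omit hE in
/-- `f^* b` has degree zero on every closed subscheme of a fibre. -/
theorem degOn_pull_eq_zero [IsProper (E ↘ Spec (CommRingCat.of k))] (x : KPt k E) (J : X.IdealSheafData)
    (h : fb f x ≤ J) (b : Pic E) : degOn k X J (pull f b) = 0 :=
  degOn_eq_zero_of_pull k X J _ (pull_sub_pull f x J h b)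

variable [IsProper (X ↘ Spec (CommRingCat.of k))] (hg : gen k E = 1)

omit hg in
theorem dot_fb_pull (x : KPt k E) (b : Pic E) :
    dot k X (ic (fb f x) (isEff_fb f hfib hE x)) (pull f b) = 0 := by
  have := hE.proper
  rw [dot_ic_eq, degOn_pull_eq_zero f hfib x _ le_rfl, neg_zero]

include hg

theorem dot_pull_pull (hdim : topologicalKrullDim X ≤ (2 : ℕ)) (a b : Pic E) :
    dot k X (pull f a) (pull f b) = 0 := by
  refine GenOne.eq_zero_of_pcl hE hg (fun a => dot k X (pull f a) (pull f b)) (fun a a' => ?_) (fun x => ?_) a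
  · rw [map_mul, dot_mul_left k X hdim]
  · rw [← ic_fb f hfib hE x]
    exact dot_fb_pull f hfib hE x b

end surf

end K665.Vert
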